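import Groth.Agent.H16Derived.GTheory.Extend
import Groth.Agent.H16Derived.ProjFormula.ClosedImm
import Groth.Agent.H8Props.FunDescent.Stalk
import Groth.Agent.H24FSch.ModSysPush
import Groth.Agent.H17.Image
import Groth.Agent.LeadDev.Rules
import Groth.Agent.H27KZero.Devissage
import Groth.Agent.H27KZero.Coherent
import Groth.Agent.H29Fitt.PullbackQCoh
import Groth.Prelude.Def_SGA6

/-!
# `K₀` of coherent modules and closed immersions

Coherent modules supported on a closed subscheme have their classes in the image of the direct image; for a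
surjective closed immersion the direct image is bijective (dévissage).
-/

set_option autoImplicit false
set_option linter.style.haveILetI false
set_option linter.unusedSectionVars false

universe u

open CategoryTheory CategoryTheory.Limits AlgebraicGeometry ZeroObject TensorProduct

namespace Groth.Agent.H16Derived.GTheory

open H27KZero.SerreSeq (shortExact_of_iso)

/-! ### Generalities on `K₀` of a class of objects -/

section General

variable {A : Type*} [Category A] [Abelian A] {P : ObjectProperty A}

theorem clSub_isAdd : IsAdd (P : A → Prop) (KZero.clSub P) := fun _ hS h₁ h₂ h₃ =>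
  H27KZero.SerreSeq.clSub_shortExact hS h₁ h₂ h₃

theorem exists_lift_isAdd {G : Type*} [AddCommGroup G] (c : A → G) (hc : IsAdd (P : A → Prop) c) :
    ∃ g : KZero.K0sub P →+ G, ∀ M, P M → g (KZero.clSub P M) = c M := by
  refine ⟨QuotientAddGroup.lift _ (FreeAbelianGroup.lift fun X : Subtype P => c X.1) ?_, fun X hX => ?_⟩
  · rw [KZero.relSub, AddSubgroup.closure_le]
    rintro _ ⟨S, h₁, h₂, h₃, hS, rfl⟩
    simp [hc S hS h₁ h₂ h₃]
  · simp [KZero.clSub, dif_pos hX]

theorem k0sub_ext {G : Type*} [AddCommGroup G] {f g : KZero.K0sub P →+ G}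
    (h : ∀ M, P M → f (KZero.clSub P M) = g (KZero.clSub P M)) : f = g := by
  refine QuotientAddGroup.addMonoidHom_ext _ (FreeAbelianGroup.lift_ext _ _ fun E => ?_)
  have := h E.1 E.2
  rwa [KZero.clSub, dif_pos E.2] at this

theorem mapSub_clSub {B : Type*} [Category B] [Abelian B] {Q : ObjectProperty B} (F : A ⥤ B) [F.Additive]
    [PreservesFiniteLimits F] [PreservesFiniteColimits F] (h : ∀ M, P M → Q (F.obj M)) {M : A} (hM : P M) :
    SGA6.mapSub F P Q h (KZero.clSub P M) = KZero.clSub Q (F.obj M) := by
  rw [KZero.clSub, KZero.clSub, dif_pos hM, dif_pos (h M hM)]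
  rfl

end General

/-! ### Coherent modules -/

theorem isAbClass_isCoh (X : Scheme.{u}) [IsNoetherian X] :
    IsAbClass (fun M : X.Modules => Coh.IsCoh M) where
  zero _ h := LeadDev.isCoh_of_isZero h
  iso _ _ e h := H27KZero.isCoh_of_iso e h
  kernel _ _ f hM hN := H10Coh.isCoh_kernel f hM hN.1
  cokernel _ _ f hM hN := H10Coh.isCoh_cokernel f hM.1 hN

theorem isSub_self {A : Type*} [Category A] [Abelian A] {Q : A → Prop} (hQ : IsAbClass Q) : IsSub Q Q where
  le _ h := h
  zero _ h := hQ.zero h
  sub _ _ _ _ h _ := h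
  quot _ _ _ _ h _ := h

theorem isCoh_pull {X Y : Scheme.{u}} (f : X ⟶ Y) {F : Y.Modules} (hF : Coh.IsCoh F) :
    Coh.IsCoh ((Scheme.Modules.pullback f).obj F) :=
  ⟨H29Fitt.isQCoh_pullback _ F hF.1, H29Fitt.isFT_pullback _ F hF.1 hF.2⟩

section Unit

attribute [local instance] Groth.Agent.H06Mod.stalkAlgebra

open H16Derived.ProjFormula in
/-- The unit of a closed immersion is an epimorphism. -/
theorem epi_unit {X Y : Scheme.{u}} (f : X ⟶ Y) [IsClosedImmersion f] (F : Y.Modules) :
    Epi ((Scheme.Modules.pullbackPushforwardAdjunction f).unit.app F) := by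
  refine (H8Props.FunDescent.epi_iff _).2 fun y => ?_
  show Function.Surjective ((TopCat.Presheaf.stalkFunctor Ab.{u} y).map
    ((Scheme.Modules.pullbackPushforwardAdjunction f).unit.app F).mapPresheaf)
  by_cases hy : y ∈ Set.range f.base
  · obtain ⟨x, rfl⟩ := hy
    have hps : Function.Surjective (H06Mod.pullStalk f F x) := by
      intro z
      obtain ⟨t, rfl⟩ := (H06Mod.pullStalkEquiv f F x).surjective z
      induction t using TensorProduct.induction_on with
      | zero => exact ⟨0, (map_zero _).trans (map_zero _).symm⟩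
      | add a b ha hb =>
        obtain ⟨m, hm⟩ := ha
        obtain ⟨m', hm'⟩ := hb
        exact ⟨m + m', by rw [map_add, hm, hm', map_add]⟩
      | tmul r m =>
        obtain ⟨s, rfl⟩ := f.stalkMap_surjective x r
        refine ⟨s • m, ?_⟩
        refine ((H06Mod.pullStalkLin_tmul f F x 1 (s • m)).trans (one_smul _ _)).symm.trans ?_
        show H06Mod.pullStalkEquiv f F x ((1 : X.presheaf.stalk x) ⊗ₜ[Y.presheaf.stalk (f.base x)] (s • m)) = _
        congr 1
        rw [TensorProduct.tmul_smul, TensorProduct.smul_tmul', Algebra.smul_def, mul_one]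
        rfl
    intro b
    obtain ⟨a, ha⟩ := hps (pushStalk f _ x b)
    exact ⟨a, (pushStalk_bijective f _ x).1 ((pushStalk_unit f F x a).trans ha)⟩
  · exact fun b => ⟨(0 : F.presheaf.stalk y), @Subsingleton.elim _
      (subsingleton_stalk_push f ((Scheme.Modules.pullback f).obj F) y hy) _ b⟩

end Unit

variable {X X' : Scheme.{u}} [IsNoetherian X] (i : X' ⟶ X) [IsClosedImmersion i]

/-- The unit of inverse and direct image. -/
noncomputable abbrev cAdj : Scheme.Modules.pullback i ⊣ Scheme.Modules.pushforward i :=
  Scheme.Modules.pullbackPushforwardAdjunction i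

/-- Coherent direct images from `X'`. -/
def OnClosed (M : X.Modules) : Prop := Coh.IsCoh M ∧ IsIso ((cAdj i).unit.app M)

theorem isNoetherian_of_closed {X X' : Scheme.{u}} [IsNoetherian X] (i : X' ⟶ X) [IsClosedImmersion i] :
    IsNoetherian X' :=
  haveI : IsLocallyNoetherian X' := LocallyOfFiniteType.isLocallyNoetherian i
  haveI : CompactSpace X' := QuasiCompact.compactSpace_of_compactSpace i
  {}

theorem onClosed_push {N : X'.Modules} (hN : Coh.IsCoh N) : OnClosed i ((Scheme.Modules.pushforward i).obj N) :=
  ⟨H24FSch.isCoh_pushforward_of_isClosedImmersion i hN,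
    H16Derived.ProjFormula.isIso_unit_of_killed i (H16Derived.ProjFormula.killed_push i N)⟩

theorem isSub_onClosed : IsSub (fun M : X.Modules => Coh.IsCoh M) (OnClosed i) where
  le _ h := h.1
  zero Z h := by
    refine ⟨LeadDev.isCoh_of_isZero h, ?_⟩
    haveI : (Scheme.Modules.pullback i).IsLeftAdjoint := (cAdj i).isLeftAdjoint
    haveI : (Scheme.Modules.pushforward i).IsRightAdjoint := (cAdj i).isRightAdjoint
    have h' : IsZero ((Scheme.Modules.pushforward i).obj ((Scheme.Modules.pullback i).obj Z)) :=
      (Scheme.Modules.pushforward i).map_isZero ((Scheme.Modules.pullback i).map_isZero h)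
    exact ⟨⟨0, h.eq_of_src _ _, h'.eq_of_src _ _⟩⟩
  sub K M f _ hK hM := by
    haveI := hM.2
    haveI := epi_unit i K
    have h := (cAdj i).unit.naturality f
    haveI : Mono ((cAdj i).unit.app K ≫ (Scheme.Modules.pullback i ⋙ Scheme.Modules.pushforward i).map f) := by
      rw [← h]
      exact mono_comp f _
    haveI : Mono ((cAdj i).unit.app K) := mono_of_mono _ ((Scheme.Modules.pullback i ⋙ Scheme.Modules.pushforward i).map f)
    exact ⟨hK, isIso_of_mono_of_epi _⟩
  quot M C e _ hC hM := by
    haveI := hM.2
    -- the kernel of `e` lies on the closed subscheme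
    have hK : Coh.IsCoh (kernel e) := H10Coh.isCoh_kernel e hM.1 hC.1
    haveI : IsIso ((cAdj i).unit.app (kernel e)) := by
      haveI := epi_unit i (kernel e)
      have h := (cAdj i).unit.naturality (kernel.ι e)
      haveI : Mono ((cAdj i).unit.app (kernel e) ≫
          (Scheme.Modules.pullback i ⋙ Scheme.Modules.pushforward i).map (kernel.ι e)) := by
        rw [← h]
        exact mono_comp (kernel.ι e) _
      haveI : Mono ((cAdj i).unit.app (kernel e)) :=
        mono_of_mono _ ((Scheme.Modules.pullback i ⋙ Scheme.Modules.pushforward i).map (kernel.ι e))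
      exact isIso_of_mono_of_epi _
    haveI := epi_unit i C
    refine ⟨hC, ?_⟩
    have h0 : kernel.ι e ≫ e = 0 := kernel.condition e
    have hc : (ShortComplex.mk _ _ h0).Exact := ShortComplex.exact_kernel e
    have h1 : kernel.ι e ≫ (cAdj i).unit.app M ≫
        (Scheme.Modules.pullback i ⋙ Scheme.Modules.pushforward i).map e = 0 := by
      rw [← (cAdj i).unit.naturality e, ← Category.assoc]
      exact (congrArg (· ≫ (cAdj i).unit.app C) h0).trans zero_comp
    -- a left inverse of the unit at `C`
    have h2 : (Scheme.Modules.pullback i ⋙ Scheme.Modules.pushforward i).map (kernel.ι e) ≫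
        inv ((cAdj i).unit.app M) ≫ e = 0 := by
      rw [← cancel_epi ((cAdj i).unit.app (kernel e)), comp_zero, ← Category.assoc,
        ← (cAdj i).unit.naturality (kernel.ι e), Category.assoc, IsIso.hom_inv_id_assoc]
      exact h0
    haveI : (Scheme.Modules.pullback i).IsLeftAdjoint := (cAdj i).isLeftAdjoint
    haveI : (Scheme.Modules.pushforward i).IsRightAdjoint := (cAdj i).isRightAdjoint
    haveI : (Scheme.Modules.pushforward i).Additive := Functor.additive_of_preserves_binary_products _
    haveI : (Scheme.Modules.pushforward i).PreservesHomology := H16Derived.ProjFormula.preservesHomology_push i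
    haveI : PreservesFiniteColimits (Scheme.Modules.pushforward i) :=
      (Scheme.Modules.pushforward i).preservesFiniteColimits_of_preservesHomology
    have hS : (ShortComplex.mk _ _ h0).map (Scheme.Modules.pullback i ⋙ Scheme.Modules.pushforward i) |>.Exact :=
      hc.map_of_epi_of_preservesCokernel _ inferInstance inferInstance
    haveI : Epi ((ShortComplex.mk _ _ h0).map (Scheme.Modules.pullback i ⋙ Scheme.Modules.pushforward i)).g :=
      inferInstanceAs (Epi ((Scheme.Modules.pullback i ⋙ Scheme.Modules.pushforward i).map e))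
    obtain ⟨r, hr⟩ : ∃ r : (Scheme.Modules.pullback i ⋙ Scheme.Modules.pushforward i).obj C ⟶ C,
        (Scheme.Modules.pullback i ⋙ Scheme.Modules.pushforward i).map e ≫ r =
          inv ((cAdj i).unit.app M) ≫ e := ⟨hS.desc _ h2, hS.g_desc _ h2⟩
    haveI : Mono ((cAdj i).unit.app C) := by
      have : (cAdj i).unit.app C ≫ r = 𝟙 C := by
        rw [← cancel_epi e, Category.comp_id, ← Category.assoc]
        refine (congrArg (· ≫ r) ((cAdj i).unit.naturality e)).trans ?_
        rw [Category.assoc, hr, IsIso.hom_inv_id_assoc]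
      exact mono_of_mono_fac this
    exact isIso_of_mono_of_epi _

/-- Coherent modules supported on the image are filtered by direct images. -/
theorem exists_iter {M : X.Modules} (hM : Coh.IsCoh M) (hs : CohB1.support M ⊆ Set.range i) :
    ∃ k, iter (fun M : X.Modules => Coh.IsCoh M) (OnClosed i) k M := by
  have hQ := isAbClass_isCoh X
  have hP := isSub_onClosed i
  refine LeadDev.devissage_induction (Set.range i)
    (fun M => Coh.IsCoh M → ∃ k, iter (fun M : X.Modules => Coh.IsCoh M) (OnClosed i) k M)
    (fun M N e h hN => ?_) (fun M h _ => ⟨0, hP.zero h⟩) (fun S hS h1 h2 h3 p1 p3 _ => ?_) ?_ M hM hs hM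
  · obtain ⟨e⟩ := e
    obtain ⟨k, hk⟩ := h (hQ.iso e.symm hN)
    exact ⟨k, (isSub_iter hQ hP k).iso hQ e hk⟩
  · obtain ⟨k, hk⟩ := p1 h1
    obtain ⟨l, hl⟩ := p3 h3
    exact ⟨max k l + 1, h2, S.X₁, S.X₃, S.f, S.g, S.zero, hS, iter_mono hQ hP (le_max_left k l) hk,
      iter_mono hQ hP (le_max_right k l) hl⟩
  · intro Z j _ _ hr _ I ι _ hI _
    obtain ⟨a, rfl⟩ := H17.exists_lift_of_range_subset j i hr
    haveI := isNoetherian_of_closed i
    haveI : IsClosedImmersion a := IsClosedImmersion.of_comp a i
    haveI : IsNoetherian Z := isNoetherian_of_closed a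
    refine ⟨0, hP.iso hQ ((Scheme.Modules.pushforwardComp a i).app I) (onClosed_push i ?_)⟩
    exact H24FSch.isCoh_pushforward_of_isClosedImmersion a (H10Coh.isCoh_of_mono ι hI (H10Coh.isCoh_structureModule' Z))

variable [(Scheme.Modules.pushforward i).Additive] [PreservesFiniteLimits (Scheme.Modules.pushforward i)]
  [PreservesFiniteColimits (Scheme.Modules.pushforward i)]
  (hi : ∀ M : X'.Modules, Coh.IsCoh M → Coh.IsCoh ((Scheme.Modules.pushforward i).obj M))

local notation "pushK" => SGA6.mapSub (Scheme.Modules.pushforward i) (fun M : X'.Modules => Coh.IsCoh M)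
  (fun M : X.Modules => Coh.IsCoh M) hi

theorem clSub_mem_of_onClosed {M : X.Modules} (hM : OnClosed i M) :
    KZero.clSub (fun M : X.Modules => Coh.IsCoh M) M ∈ AddMonoidHom.range pushK := by
  haveI := hM.2
  haveI := isNoetherian_of_closed i
  refine ⟨KZero.clSub _ ((Scheme.Modules.pullback i).obj M), ?_⟩
  have hc := isCoh_pull i hM.1
  rw [mapSub_clSub (P := fun M : X'.Modules => Coh.IsCoh M) (Q := fun M : X.Modules => Coh.IsCoh M) _ hi hc]
  exact (clSub_isAdd (P := fun M : X.Modules => Coh.IsCoh M)).map_iso (isAbClass_isCoh X)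
    (isSub_self (isAbClass_isCoh X)) (asIso ((cAdj i).unit.app M)).symm (hi _ hc)

/-- Modules supported on the closed subscheme have their classes in the image of the direct image. -/
theorem clSub_mem_of_support {M : X.Modules} (hM : Coh.IsCoh M) (hs : CohB1.support M ⊆ Set.range i) :
    KZero.clSub (fun M : X.Modules => Coh.IsCoh M) M ∈ AddMonoidHom.range pushK := by
  have hQ := isAbClass_isCoh X
  have hP := isSub_onClosed i
  obtain ⟨k, hk⟩ := exists_iter i hM hs
  clear hs hM
  induction k generalizing M with
  | zero => exact clSub_mem_of_onClosed i hi hk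
  | succ k ih =>
    obtain ⟨hM, N, C, f, p, w, hS, hN, hC⟩ := hk
    rw [show KZero.clSub (fun M : X.Modules => Coh.IsCoh M) M = _ from
      clSub_isAdd _ hS ((isSub_iter hQ hP k).le hN) hM ((isSub_iter hQ hP k).le hC)]
    exact add_mem (ih hN) (ih hC)

/-- Dévissage: a surjective closed immersion induces a bijection. -/
theorem bijective_push [Surjective i] : Function.Bijective pushK := by
  haveI := isNoetherian_of_closed i
  have hsurj : Set.range i = Set.univ := i.surjective.range_eq
  haveI : ∀ N, IsIso ((cAdj i).counit.app N) := H16Derived.ProjFormula.isIso_counit_of_isClosedImmersion i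
  haveI : IsIso (cAdj i).counit := NatIso.isIso_of_isIso_app _
  haveI : (Scheme.Modules.pushforward i).Faithful := (cAdj i).fullyFaithfulROfIsIsoCounit.faithful
  let P' : ObjectProperty X'.Modules := fun M => Coh.IsCoh M
  have hc : IsAdd (OnClosed i) (fun M : X.Modules => KZero.clSub P' ((Scheme.Modules.pullback i).obj M)) :=
    fun S hS h₁ h₂ h₃ => by
    haveI : (Scheme.Modules.pullback i).IsLeftAdjoint := (cAdj i).isLeftAdjoint
    haveI := h₁.2
    haveI := h₂.2
    haveI := h₃.2
    let T := S.map (Scheme.Modules.pullback i)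
    let e : S ≅ T.map (Scheme.Modules.pushforward i) :=
      ShortComplex.isoMk (@asIso _ _ _ _ ((cAdj i).unit.app S.X₁) h₁.2) (@asIso _ _ _ _ ((cAdj i).unit.app S.X₂) h₂.2)
        (@asIso _ _ _ _ ((cAdj i).unit.app S.X₃) h₃.2) ((cAdj i).unit.naturality S.f).symm ((cAdj i).unit.naturality S.g).symm
    have hT' := ShortComplex.shortExact_of_iso e hS
    haveI := hT'.mono_f
    haveI := hT'.epi_g
    have hT : T.ShortExact :=
      { exact := (ShortComplex.exact_map_iff_of_faithful T (Scheme.Modules.pushforward i)).1 hT'.exact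
        mono_f := (Scheme.Modules.pushforward i).mono_of_mono_map
          (show Mono ((Scheme.Modules.pushforward i).map T.f) from hT'.mono_f)
        epi_g := (Scheme.Modules.pushforward i).epi_of_epi_map
          (show Epi ((Scheme.Modules.pushforward i).map T.g) from hT'.epi_g) }
    exact clSub_isAdd (P := P') T hT (isCoh_pull i h₁.1) (isCoh_pull i h₂.1)
      (isCoh_pull i h₃.1)
  obtain ⟨c', hc', hc''⟩ := exists_extend_iter (isAbClass_isCoh X) (isSub_onClosed i)
    (fun M hM => exists_iter i hM (by rw [hsurj]; exact Set.subset_univ _)) hc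
  obtain ⟨g, hg⟩ := exists_lift_isAdd (P := fun M : X.Modules => Coh.IsCoh M) c' hc'
  have hleft : g.comp pushK = AddMonoidHom.id _ := k0sub_ext fun M hM => by
    rw [AddMonoidHom.comp_apply, mapSub_clSub (P := P') (Q := fun M : X.Modules => Coh.IsCoh M) _ hi hM,
      hg _ (hi M hM), hc'' _ (onClosed_push i hM), AddMonoidHom.id_apply]
    exact (clSub_isAdd (P := P')).map_iso (isAbClass_isCoh X') (isSub_self (isAbClass_isCoh X'))
      (asIso ((cAdj i).counit.app M)) (isCoh_pull i (hi M hM))
  refine ⟨fun a b h => ?_, fun y => ?_⟩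
  · exact (DFunLike.congr_fun hleft a).symm.trans ((congrArg g h).trans (DFunLike.congr_fun hleft b))
  · have htop := H27KZero.closure_eq_top (P := fun M : X.Modules => Coh.IsCoh M)
      (AddMonoidHom.range pushK) fun M hM => clSub_mem_of_support i hi hM (by rw [hsurj]; exact Set.subset_univ _)
    exact htop.ge (AddSubgroup.mem_top y)

end Groth.Agent.H16Derived.GTheory
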