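import Groth.Agent.H16Derived.GTheory.Localization
import Groth.Agent.H8Props.Reduced
import Groth.Agent.H17.CohSub

/-!
# `K₀` of coherent modules and flat preimmersions (for example generic fibres)

The kernel of the pull-back along a flat preimmersion is generated by the modules vanishing on it.
-/

set_option autoImplicit false
set_option linter.style.haveILetI false
set_option linter.unusedSectionVars false

universe u

open CategoryTheory CategoryTheory.Limits AlgebraicGeometry TopologicalSpace ZeroObject TensorProduct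
open Groth.Agent.H06Mod Groth.Agent.H8Props.FunDescent

attribute [local instance] Groth.Agent.H06Mod.stalkAlgebra

namespace Groth.Agent.H16Derived.GTheory

open H27KZero.SerreSeq (shortExact_of_kernel_cokernel shortExact_image)

variable {X U : Scheme.{u}} (g : U ⟶ X)

/-- Inverse image along a flat morphism is exact. -/
theorem preservesFiniteLimits_pullback [Flat g] : PreservesFiniteLimits (Scheme.Modules.pullback g) := by
  haveI : (Scheme.Modules.pullback g).IsLeftAdjoint :=
    (Scheme.Modules.pullbackPushforwardAdjunction g).isLeftAdjoint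
  haveI : (Scheme.Modules.pullback g).Additive := Functor.additive_of_preserves_binary_products _
  haveI : (Scheme.Modules.pullback g).PreservesMonomorphisms := ⟨fun {M N} φ hφ =>
    (mono_iff _).2 fun x => (injective_stalkLin_pullback_iff g φ x).2 ((mono_iff φ).1 hφ (g x))⟩
  haveI := (Scheme.Modules.pullback g).preservesHomology_of_preservesMonos_and_cokernels
  exact (Scheme.Modules.pullback g).preservesFiniteLimits_of_preservesHomology

theorem stalkLin_comp {L M N : U.Modules} (φ : L ⟶ M) (ψ : M ⟶ N) (x : U) (a : L.presheaf.stalk x) :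
    stalkLin (φ ≫ ψ) x a = stalkLin ψ x (stalkLin φ x a) :=
  congr($((DerSch.stalkFunctor U x).map_comp φ ψ) a)

variable [IsPreimmersion g]

theorem pushStalk_bijective' (G : U.Modules) (x : U) :
    Function.Bijective (H16Derived.ProjFormula.pushStalk g G x) := by
  haveI : IsIso (G.presheaf.stalkPushforward Ab.{u} g.base x) :=
    TopCat.Presheaf.stalkPushforward.stalkPushforward_iso_of_isInducing Ab
      g.isEmbedding.isInducing G.presheaf x
  exact ConcreteCategory.bijective_of_isIso (G.presheaf.stalkPushforward Ab.{u} g.base x)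

variable [Flat g]

theorem pullStalk_bijective (F : X.Modules) (x : U) : Function.Bijective (pullStalk g F x) := by
  let A := X.presheaf.stalk (g.base x)
  let B := U.presheaf.stalk x
  let M := F.presheaf.stalk (g.base x)
  have hbij : Function.Bijective (g.stalkMap x).hom :=
    H8Props.bijective_stalkMap_of_flat g x (Flat.stalkMap g x)
  have hlin : Function.Bijective (Algebra.linearMap A B) := hbij
  let e : A ≃ₗ[A] B := LinearEquiv.ofBijective (Algebra.linearMap A B) hlin
  let E : M ≃ₗ[A] B ⊗[A] M := (TensorProduct.lid A M).symm.trans (LinearEquiv.rTensor M e)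
  have h : pullStalk g F x = pullStalkEquiv g F x ∘ E := by
    funext m
    refine ((pullStalkLin_tmul g F x 1 m).trans (one_smul _ _)).symm.trans ?_
    show pullStalkEquiv g F x ((1 : B) ⊗ₜ[A] m) = pullStalkEquiv g F x (e 1 ⊗ₜ[A] m)
    congr 2
    exact (map_one (algebraMap A B)).symm
  rw [h]
  exact (pullStalkEquiv g F x).bijective.comp E.bijective

/-- The counit at a module is the identification of the stalks. -/
theorem counit_pullStalk (G : U.Modules) (x : U)
    (b : ((Scheme.Modules.pushforward g).obj G).presheaf.stalk (g.base x)) :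
    (TopCat.Presheaf.stalkFunctor Ab.{u} x).map
        ((Scheme.Modules.pullbackPushforwardAdjunction g).counit.app G).mapPresheaf
        (pullStalk g ((Scheme.Modules.pushforward g).obj G) x b) =
      H16Derived.ProjFormula.pushStalk g G x b := by
  let a := Scheme.Modules.pullbackPushforwardAdjunction g
  refine (congrArg _ (H16Derived.ProjFormula.pushStalk_unit g ((Scheme.Modules.pushforward g).obj G) x b).symm).trans ?_
  refine (H16Derived.ProjFormula.pushStalk_naturality g (a.counit.app G) x _).symm.trans (congrArg _ ?_)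
  have h := congrArg (fun φ => (DerSch.stalkFunctor X (g.base x)).map φ) (a.right_triangle_components G)
  simp only [Functor.map_comp] at h
  exact (congr($h b)).trans (congr($((DerSch.stalkFunctor X (g.base x)).map_id _) b))

theorem isIso_counit_flat (G : U.Modules) :
    IsIso ((Scheme.Modules.pullbackPushforwardAdjunction g).counit.app G) := by
  refine H16Derived.KFlat.Stalk.isIso_of_stalk _ fun x => (ConcreteCategory.isIso_iff_bijective _).2 ?_
  show Function.Bijective ((TopCat.Presheaf.stalkFunctor Ab.{u} x).map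
    ((Scheme.Modules.pullbackPushforwardAdjunction g).counit.app G).mapPresheaf)
  refine (Function.Bijective.of_comp_iff _ (pullStalk_bijective g _ x)).1 ?_
  convert! pushStalk_bijective' g G x using 1
  funext b
  exact counit_pullStalk g G x b

theorem stalk_subsingleton_of_isZero_pullback {M : X.Modules} (h : IsZero ((Scheme.Modules.pullback g).obj M)) :
    CohB1.support M ⊆ (Set.range g)ᶜ := by
  rintro y hy ⟨x, rfl⟩
  refine hy ?_
  haveI : Subsingleton (((Scheme.Modules.pullback g).obj M).presheaf.stalk x) :=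
    AddCommGrpCat.subsingleton_of_isZero
      ((Scheme.Modules.toPresheaf _ ⋙ TopCat.Presheaf.stalkFunctor Ab.{u} x).map_isZero h)
  exact (pullStalk_bijective g M x).1.subsingleton

variable [QuasiCompact g] [QuasiSeparated g] [IsNoetherian X] [IsNoetherian U]

/-- Coherent modules extend along a flat preimmersion. -/
theorem exists_extension_flat {G : U.Modules} (hG : Coh.IsCoh G) :
    ∃ K : X.Modules, Coh.IsCoh K ∧ Nonempty ((Scheme.Modules.pullback g).obj K ≅ G) := by
  classical
  haveI : G.IsQuasicoherent := hG.1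
  haveI := preservesFiniteLimits_pullback g
  haveI := isIso_counit_flat g G
  let F := (Scheme.Modules.pushforward g).obj G
  have hF : Coh.IsQCoh F := H10Coh.isQuasicoherent_pushforward g G
  let R := Scheme.Modules.pullback g
  let ε := (Scheme.Modules.pullbackPushforwardAdjunction g).counit.app G
  haveI : IsIso ε := isIso_counit_flat g G
  let P : ∀ N : U.Modules, (N ⟶ G) → Prop := fun N f => ∃ (K : X.Modules) (k : K ⟶ F) (e : N ≅ R.obj K),
    Mono k ∧ Coh.IsCoh K ∧ f = e.hom ≫ R.map k ≫ ε
  obtain ⟨N, f, ⟨K, k, e, hk, hK, rfl⟩, hmax⟩ := LeadDev.exists_maximal_sub G hG P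
    (fun N' f' h => by
      obtain ⟨K, k, e, hk, hK, rfl⟩ := h
      haveI := hk
      exact ⟨inferInstance, H27KZero.isCoh_of_iso e.symm (isCoh_pull g hK)⟩)
    ⟨R.obj 0, _, 0, 0, Iso.refl _, ⟨fun _ _ _ => (isZero_zero X.Modules).eq_of_tgt _ _⟩,
      LeadDev.isCoh_of_isZero (isZero_zero _), rfl⟩
  haveI := hk
  suffices Epi (R.map k ≫ ε) by
    haveI := this
    haveI : IsIso (R.map k ≫ ε) := isIso_of_mono_of_epi _
    exact ⟨K, hK, ⟨asIso (R.map k ≫ ε)⟩⟩
  refine (epi_iff _).2 fun x a => ?_
  obtain ⟨b, rfl⟩ := (pushStalk_bijective' g G x).2 a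
  obtain ⟨W, hW, s, rfl⟩ := F.presheaf.exists_germ_eq b
  obtain ⟨V, hV, hxV, hle⟩ := exists_isAffineOpen_mem_and_subset (x := g.base x) (U := W) hW
  obtain ⟨H, h, hh, hH, hs⟩ := H17.CohSub.exists_coh_sub F hF hV {F.presheaf.map (homOfLE hle).op s}
  obtain ⟨t, ht⟩ := hs _ (Finset.mem_singleton_self _)
  let d := biprod.desc k h
  have hKH : Coh.IsCoh (K ⊞ H) :=
    H27KZero.isCoh_extension (H27KZero.SerreSeq.shortExact_biprod_inl K H) hK hH
  have hS := isCoh_image d hKH hF
  let s₁ := biprod.inl ≫ Abelian.factorThruImage d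
  let s₂ := biprod.inr ≫ Abelian.factorThruImage d
  have hφ : e.hom ≫ R.map s₁ ≫ R.map (Abelian.image.ι d) ≫ ε = e.hom ≫ R.map k ≫ ε := by
    rw [← Functor.map_comp_assoc, Category.assoc, Abelian.image.fac, biprod.inl_desc]
  haveI hepi : Epi (e.hom ≫ R.map s₁) := hmax _ (R.map (Abelian.image.ι d) ≫ ε) _
    ⟨_, Abelian.image.ι d, Iso.refl _, inferInstance, hS, (Category.id_comp _).symm⟩
    ((Category.assoc _ _ _).trans hφ)
  haveI : Epi (R.map s₁) := epi_of_epi e.hom _
  let c := H.presheaf.germ V (g.base x) hxV t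
  obtain ⟨y, hy⟩ := (epi_iff (R.map s₁)).1 inferInstance x
    (stalkLin (R.map s₂) x (pullStalk g H x c))
  refine ⟨y, ?_⟩
  have e1 : stalkLin (R.map k ≫ ε) x y = stalkLin (R.map (Abelian.image.ι d) ≫ ε) x (stalkLin (R.map s₁) x y) := by
    have hk' : R.map k ≫ ε = R.map s₁ ≫ R.map (Abelian.image.ι d) ≫ ε := (cancel_epi e.hom).1 hφ.symm
    rw [hk']
    exact stalkLin_comp _ _ x y
  have e2 : stalkLin (R.map (Abelian.image.ι d) ≫ ε) x (stalkLin (R.map s₂) x (pullStalk g H x c)) =
      stalkLin (R.map h ≫ ε) x (pullStalk g H x c) := by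
    have hh' : R.map h ≫ ε = R.map s₂ ≫ R.map (Abelian.image.ι d) ≫ ε := by
      rw [← Functor.map_comp_assoc, Category.assoc, Abelian.image.fac, biprod.inr_desc]
    rw [hh']
    exact (stalkLin_comp _ _ x _).symm
  rw [e1, hy, e2, stalkLin_comp]
  show stalkLin ε x (stalkLin (R.map h) x (pullStalk g H x c)) = _
  refine (congrArg (stalkLin ε x) (pullStalk_naturality g H x h c)).trans ?_
  refine (counit_pullStalk g G x _).trans (congrArg _ ?_)
  show (TopCat.Presheaf.stalkFunctor Ab.{u} (g.base x)).map h.mapPresheaf c = _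
  rw [TopCat.Presheaf.stalkFunctor_map_germ_apply]
  exact (congrArg (F.presheaf.germ V (g.base x) hxV) ht).trans
    (TopCat.Presheaf.germ_res_apply F.presheaf (homOfLE hle) (g.base x) hxV s)

theorem exists_toPush_flat {K : X.Modules} {G : U.Modules} (e : (Scheme.Modules.pullback g).obj K ≅ G) :
    ∃ a : K ⟶ (Scheme.Modules.pushforward g).obj G, IsIso ((Scheme.Modules.pullback g).map a) := by
  let a := Scheme.Modules.pullbackPushforwardAdjunction g
  haveI := isIso_counit_flat g G
  refine ⟨a.homEquiv K G e.hom, ?_⟩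
  have h : (Scheme.Modules.pullback g).map (a.homEquiv K G e.hom) ≫ a.counit.app G = e.hom :=
    (Adjunction.homEquiv_counit a K G _).symm.trans ((a.homEquiv K G).symm_apply_apply _)
  haveI : IsIso ((Scheme.Modules.pullback g).map (a.homEquiv K G e.hom) ≫ a.counit.app G) := by
    rw [h]; infer_instance
  exact IsIso.of_isIso_comp_right _ (a.counit.app G)

variable [(Scheme.Modules.pullback g).Additive] [PreservesFiniteLimits (Scheme.Modules.pullback g)]
  [PreservesFiniteColimits (Scheme.Modules.pullback g)]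
  (hg : ∀ M : X.Modules, Coh.IsCoh M → Coh.IsCoh ((Scheme.Modules.pullback g).obj M))
  (H : AddSubgroup (SGA6.Kcoh X))
  (hH : ∀ M : X.Modules, Coh.IsCoh M → IsZero ((Scheme.Modules.pullback g).obj M) →
    KZero.clSub (fun M : X.Modules => Coh.IsCoh M) M ∈ H)

local notation "cK" => KZero.clSub (fun M : X.Modules => Coh.IsCoh M)

include hH in
theorem mk_eq_of_isIso_pullback {K L : X.Modules} (f : K ⟶ L) (hK : Coh.IsCoh K) (hL : Coh.IsCoh L)
    [IsIso ((Scheme.Modules.pullback g).map f)] :
    (QuotientAddGroup.mk (cK K) : SGA6.Kcoh X ⧸ H) = QuotientAddGroup.mk (cK L) := by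
  have hQ := isAbClass_isCoh X
  have hk : IsZero ((Scheme.Modules.pullback g).obj (kernel f)) :=
    (isZero_kernel_of_mono ((Scheme.Modules.pullback g).map f)).of_iso
      (PreservesKernel.iso (Scheme.Modules.pullback g) f)
  have hc : IsZero ((Scheme.Modules.pullback g).obj (cokernel f)) :=
    (isZero_cokernel_of_epi ((Scheme.Modules.pullback g).map f)).of_iso
      (PreservesCokernel.iso (Scheme.Modules.pullback g) f)
  have e1 : cK K = cK (kernel f) + cK (Abelian.image f) :=
    clSub_isAdd _ (shortExact_of_kernel_cokernel f) (hQ.kernel f hK hL) hK (hQ.image f hK hL)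
  have e2 : cK L = cK (Abelian.image f) + cK (cokernel f) :=
    clSub_isAdd _ (shortExact_image _ f) (hQ.image f hK hL) hL (hQ.cokernel f hK hL)
  rw [QuotientAddGroup.eq_iff_sub_mem, e1, e2]
  have h := sub_mem (hH _ (hQ.kernel f hK hL) hk) (hH _ (hQ.cokernel f hK hL) hc)
  convert h using 1
  abel

include hH in
/-- Two extensions have the same class modulo the modules vanishing on `U`. -/
theorem mk_eq_of_pullback_iso {G : U.Modules} (hG : Coh.IsCoh G) {K K' : X.Modules} (hK : Coh.IsCoh K)
    (hK' : Coh.IsCoh K') (e : (Scheme.Modules.pullback g).obj K ≅ G) (e' : (Scheme.Modules.pullback g).obj K' ≅ G) :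
    (QuotientAddGroup.mk (cK K) : SGA6.Kcoh X ⧸ H) = QuotientAddGroup.mk (cK K') := by
  haveI : G.IsQuasicoherent := hG.1
  have hF : Coh.IsQCoh ((Scheme.Modules.pushforward g).obj G) := H10Coh.isQuasicoherent_pushforward g G
  obtain ⟨a, ha⟩ := exists_toPush_flat g e
  obtain ⟨a', ha'⟩ := exists_toPush_flat g e'
  let R := Scheme.Modules.pullback g
  let d := biprod.desc a a'
  have hKK : Coh.IsCoh (K ⊞ K') :=
    H27KZero.isCoh_extension (H27KZero.SerreSeq.shortExact_biprod_inl K K') hK hK'
  have hS := isCoh_image d hKK hF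
  let s := biprod.inl ≫ Abelian.factorThruImage d
  let s' := biprod.inr ≫ Abelian.factorThruImage d
  have hs : R.map s ≫ R.map (Abelian.image.ι d) = R.map a := by
    rw [← Functor.map_comp, Category.assoc, Abelian.image.fac, biprod.inl_desc]
  have hs' : R.map s' ≫ R.map (Abelian.image.ι d) = R.map a' := by
    rw [← Functor.map_comp, Category.assoc, Abelian.image.fac, biprod.inr_desc]
  haveI : IsIso (R.map (Abelian.image.ι d)) := by
    haveI : Epi (R.map (Abelian.image.ι d)) := @epi_of_epi_fac _ _ _ _ _ _ _ _ (@IsIso.epi_of_iso _ _ _ _ _ ha) hs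
    exact isIso_of_mono_of_epi _
  haveI : IsIso (R.map s ≫ R.map (Abelian.image.ι d)) := by rw [hs]; exact ha
  haveI : IsIso (R.map s' ≫ R.map (Abelian.image.ι d)) := by rw [hs']; exact ha'
  haveI : IsIso (R.map s) := IsIso.of_isIso_comp_right _ (R.map (Abelian.image.ι d))
  haveI : IsIso (R.map s') := IsIso.of_isIso_comp_right _ (R.map (Abelian.image.ι d))
  rw [mk_eq_of_isIso_pullback g H hH s hK hS, mk_eq_of_isIso_pullback g H hH s' hK' hS]

local notation "pullK" => SGA6.mapSub (Scheme.Modules.pullback g) (fun M : X.Modules => Coh.IsCoh M)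
  (fun M : U.Modules => Coh.IsCoh M) hg

include hH in
/-- The kernel of the pull-back is generated by the modules vanishing on `U`. -/
theorem ker_pullback_le : AddMonoidHom.ker pullK ≤ H := by
  classical
  let R := Scheme.Modules.pullback g
  let PU : ObjectProperty U.Modules := fun M => Coh.IsCoh M
  choose Kx hKx eKx using fun (G : U.Modules) (hG : Coh.IsCoh G) => exists_extension_flat g hG
  let c : U.Modules → SGA6.Kcoh X ⧸ H := fun G =>
    if h : Coh.IsCoh G then QuotientAddGroup.mk (cK (Kx G h)) else 0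
  have hc0 : ∀ {G : U.Modules} {K : X.Modules}, Coh.IsCoh G → Coh.IsCoh K → (R.obj K ≅ G) →
      c G = QuotientAddGroup.mk (cK K) := fun {G K} hG hK e => by
    simp only [c, dif_pos hG]
    exact mk_eq_of_pullback_iso g H hH hG (hKx G hG) hK (eKx G hG).some e
  have hc : IsAdd (fun M : U.Modules => Coh.IsCoh M) c := fun S hS h₁ h₂ h₃ => by
    haveI : S.X₃.IsQuasicoherent := h₃.1
    have hF3 : Coh.IsQCoh ((Scheme.Modules.pushforward g).obj S.X₃) := H10Coh.isQuasicoherent_pushforward g S.X₃
    obtain ⟨K, hK, ⟨e⟩⟩ := exists_extension_flat g h₂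
    haveI := hS.epi_g
    haveI := isIso_counit_flat g S.X₃
    let a := Scheme.Modules.pullbackPushforwardAdjunction g
    let b := a.homEquiv K S.X₃ (e.hom ≫ S.g)
    have hb : R.map b ≫ a.counit.app S.X₃ = e.hom ≫ S.g :=
      (Adjunction.homEquiv_counit a K S.X₃ _).symm.trans ((a.homEquiv K S.X₃).symm_apply_apply _)
    let c₃ := asIso (a.counit.app S.X₃)
    have hI := isCoh_image b hK hF3
    haveI : Epi (R.map (Abelian.image.ι b) ≫ c₃.hom) := by
      refine epi_of_epi_fac (f := R.map (Abelian.factorThruImage b)) (h := e.hom ≫ S.g) ?_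
      rw [← Category.assoc, ← Functor.map_comp, Abelian.image.fac]
      exact hb
    haveI : Mono (R.map (Abelian.image.ι b) ≫ c₃.hom) := mono_comp _ _
    haveI : IsIso (R.map (Abelian.image.ι b) ≫ c₃.hom) := isIso_of_mono_of_epi _
    have hkc : Coh.IsCoh (kernel b) := H10Coh.isCoh_kernel b hK hF3
    let e₁ : R.obj (kernel b) ≅ S.X₁ :=
      PreservesKernel.iso R b ≪≫ kernel.mapIso (R.map b) S.g e c₃ hb ≪≫
        (kernelIsKernel S.g).conePointUniqueUpToIso hS.fIsKernel
    rw [hc0 h₁ hkc e₁, hc0 h₂ hK e, hc0 h₃ hI (asIso (R.map (Abelian.image.ι b) ≫ c₃.hom)),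
      ← QuotientAddGroup.mk_add]
    exact congrArg _ (clSub_isAdd _ (shortExact_of_kernel_cokernel b) hkc hK hI)
  obtain ⟨μ, hμ⟩ := exists_lift_isAdd (P := PU) c hc
  have h : μ.comp pullK = QuotientAddGroup.mk' H := k0sub_ext fun M hM => by
    rw [AddMonoidHom.comp_apply, mapSub_clSub (P := fun M : X.Modules => Coh.IsCoh M) (Q := PU) _ hg hM,
      hμ _ (hg M hM)]
    exact hc0 (hg M hM) hM (Iso.refl _)
  intro x hx
  rw [AddMonoidHom.mem_ker] at hx
  refine (QuotientAddGroup.eq_zero_iff x).1 ((DFunLike.congr_fun h x).symm.trans ?_)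
  rw [AddMonoidHom.comp_apply, hx, map_zero]

end Groth.Agent.H16Derived.GTheory
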