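import Groth.Agent.H16Derived.GTheory.Localization
import Groth.Agent.H11Tilde.TwistPow
import Groth.Agent.H10Coh.AmpleVanishing
import Mathlib.AlgebraicGeometry.AffineSpace

/-!
# The zero section of the affine line has class zero in `K₀` of coherent modules
-/

set_option autoImplicit false
set_option linter.style.haveILetI false
set_option linter.unusedSectionVars false
set_option backward.isDefEq.respectTransparency.types false

universe u

open CategoryTheory CategoryTheory.Limits AlgebraicGeometry TopologicalSpace ZeroObject Opposite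

noncomputable section

namespace Groth.Agent.H16Derived.GTheory

/-- The index type of the line. -/
abbrev I1 : Type u := ULift.{u} (Fin 1)

variable (X : Scheme.{u})

/-- The affine line. -/
abbrev A1 : Scheme.{u} := 𝔸(I1.{u}; X)

/-- The projection. -/
abbrev prL : A1 X ⟶ X := 𝔸(I1.{u}; X) ↘ X

/-- The zero section. -/
abbrev zeroL : X ⟶ A1 X := AffineSpace.homOfVector (𝟙 X) (fun _ => 0)

theorem zeroL_prL : zeroL X ≫ prL X = 𝟙 X := AffineSpace.homOfVector_over _ _

/-- The coordinate. -/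
abbrev tL : Γ(A1 X, ⊤) := AffineSpace.coord X (ULift.up (0 : Fin 1))

instance isAffineHom_prL : IsAffineHom (prL X) :=
  MorphismProperty.pullback_fst (P := @IsAffineHom) _ _ inferInstance

instance isClosedImmersion_zeroL : IsClosedImmersion (zeroL X) := by
  haveI : IsClosedImmersion (zeroL X ≫ prL X) := by rw [zeroL_prL]; infer_instance
  exact IsClosedImmersion.of_comp (zeroL X) (prL X)

theorem zeroL_tL : (zeroL X).appTop (tL X) = 0 := AffineSpace.homOfVector_appTop_coord _ _ _

/-- Polynomials over an open as functions on its preimage. -/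
def psiL (W : X.Opens) : Polynomial Γ(X, W) →+* Γ(A1 X, prL X ⁻¹ᵁ W) :=
  Polynomial.eval₂RingHom ((prL X).app W).hom
    ((A1 X).presheaf.map (homOfLE (le_top : prL X ⁻¹ᵁ W ≤ ⊤)).op (tL X))

theorem psiL_C (W : X.Opens) (a : Γ(X, W)) : psiL X W (Polynomial.C a) = (prL X).app W a :=
  Polynomial.eval₂_C _ _

theorem psiL_X (W : X.Opens) :
    psiL X W Polynomial.X = (A1 X).presheaf.map (homOfLE (le_top : prL X ⁻¹ᵁ W ≤ ⊤)).op (tL X) :=
  Polynomial.eval₂_X _ _

/-- Over an affine open the functions on the preimage are the polynomials. -/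
theorem psiL_bijective {W : X.Opens} (hW : IsAffineOpen W) : Function.Bijective (psiL X W) := by
  haveI : IsAffine W.toScheme := hW
  let o : A1 W.toScheme ⟶ W.toScheme := prL W.toScheme
  let q : A1 W.toScheme ⟶ A1 X := AffineSpace.map I1.{u} W.ι
  have hsq : IsPullback q o (prL X) W.ι := AffineSpace.isPullback_map W.ι
  have hq1 : q ≫ prL X = o ≫ W.ι := hsq.w
  haveI : IsOpenImmersion q := MorphismProperty.of_isPullback hsq.flip inferInstance
  have hrange : prL X ⁻¹ᵁ W ≤ q.opensRange := fun y hy => by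
    obtain ⟨w, hw⟩ : prL X y ∈ Set.range W.ι := by rw [Scheme.Opens.range_ι]; exact hy
    obtain ⟨v, hv, -⟩ := Scheme.exists_preimage_of_isPullback hsq y w hw.symm
    exact ⟨v, hv⟩
  have htop : (⊤ : (A1 W.toScheme).Opens) ≤ q ⁻¹ᵁ (prL X ⁻¹ᵁ W) := fun v _ => by
    rw [← Scheme.Hom.comp_preimage, hq1]
    exact (o v).2
  have hr : Function.Bijective (q.appLE (prL X ⁻¹ᵁ W) ⊤ htop) := by
    haveI := q.isIso_app _ hrange
    haveI : IsIso ((A1 W.toScheme).presheaf.map (homOfLE htop).op) := by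
      rw [show (homOfLE htop) = eqToHom (top_le_iff.1 htop).symm from Subsingleton.elim _ _]
      infer_instance
    rw [Scheme.Hom.appLE]
    exact ConcreteCategory.bijective_of_isIso _
  let E := MvPolynomial.eval₂Hom o.appTop.hom (AffineSpace.coord W.toScheme)
  have hE : Function.Bijective (E : MvPolynomial I1.{u} Γ(W.toScheme, ⊤) → _) := by
    haveI : IsIso ((AffineSpace.isoOfIsAffine I1.{u} W.toScheme).hom.appTop) :=
      inferInstanceAs (IsIso ((AffineSpace.isoOfIsAffine I1.{u} W.toScheme).hom.app ⊤))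
    have h := ConcreteCategory.bijective_of_isIso (AffineSpace.isoOfIsAffine I1.{u} W.toScheme).hom.appTop
    rw [AffineSpace.isoOfIsAffine_hom_appTop] at h
    exact (Function.Bijective.of_comp_iff _ (ConcreteCategory.bijective_of_isIso
      (Scheme.ΓSpecIso (CommRingCat.of (MvPolynomial I1.{u} Γ(W.toScheme, ⊤)))).hom)).1 h
  have htW : (⊤ : W.toScheme.Opens) ≤ W.ι ⁻¹ᵁ W := fun w _ => w.2
  let ι₀ : Γ(X, W) →+* Γ(W.toScheme, ⊤) := (W.ι.appLE W ⊤ htW).hom
  have hι₀ : Function.Bijective ι₀ := by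
    haveI := W.ι.isIso_app W (by rw [Scheme.Opens.opensRange_ι])
    haveI : IsIso (W.toScheme.presheaf.map (homOfLE htW).op) := by
      rw [show (homOfLE htW) = eqToHom (top_le_iff.1 htW).symm from Subsingleton.elim _ _]
      infer_instance
    show Function.Bijective (W.ι.appLE W ⊤ htW)
    rw [Scheme.Hom.appLE]
    exact ConcreteCategory.bijective_of_isIso _
  let eP : Polynomial Γ(X, W) ≃+* MvPolynomial I1.{u} Γ(W.toScheme, ⊤) :=
    (MvPolynomial.uniqueAlgEquiv Γ(X, W) I1.{u}).symm.toRingEquiv.trans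
      (MvPolynomial.mapEquiv _ (RingEquiv.ofBijective ι₀ hι₀))
  have hcomp : (q.appLE (prL X ⁻¹ᵁ W) ⊤ htop).hom.comp (psiL X W) = E.comp eP.toRingHom := by
    refine Polynomial.ringHom_ext (fun a => ?_) ?_
    · rw [RingHom.comp_apply, RingHom.comp_apply, psiL_C]
      have h1 : eP.toRingHom (Polynomial.C a) = MvPolynomial.C (ι₀ a) := by simp [eP]
      rw [h1]
      simp only [E, MvPolynomial.eval₂Hom_C]
      show ((prL X).app W ≫ q.appLE (prL X ⁻¹ᵁ W) ⊤ htop) a = (W.ι.appLE W ⊤ htW ≫ o.appTop) a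
      rw [(prL X).app_eq_appLE, Scheme.Hom.appLE_comp_appLE, show o.appTop = o.appLE ⊤ ⊤ le_top from o.app_eq_appLE,
        Scheme.Hom.appLE_comp_appLE]
      simp only [hq1]
    · rw [RingHom.comp_apply, RingHom.comp_apply, psiL_X]
      have h1 : eP.toRingHom Polynomial.X = MvPolynomial.X (ULift.up (0 : Fin 1)) := by
        simp [eP]
        exact congrArg _ (Subsingleton.elim _ _)
      rw [h1]
      simp only [E, MvPolynomial.eval₂Hom_X']
      rw [← AffineSpace.map_appTop_coord W.ι (ULift.up (0 : Fin 1))]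
      show ((A1 X).presheaf.map _ ≫ q.appLE (prL X ⁻¹ᵁ W) ⊤ htop) (tL X) = _
      rw [Scheme.Hom.map_appLE]
      rw [show q.appLE ⊤ ⊤ le_top = q.appTop from (q.app_eq_appLE).symm]
  have h : Function.Bijective ((q.appLE (prL X ⁻¹ᵁ W) ⊤ htop).hom.comp (psiL X W)) := by
    rw [hcomp]
    exact hE.comp eP.bijective
  exact (Function.Bijective.of_comp_iff' hr _).1 h

theorem le_zeroL (W : X.Opens) : W ≤ zeroL X ⁻¹ᵁ (prL X ⁻¹ᵁ W) := by
  rw [← Scheme.Hom.comp_preimage, zeroL_prL]
  exact le_rfl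

theorem zeroL_pre_eq (W : X.Opens) : zeroL X ⁻¹ᵁ (prL X ⁻¹ᵁ W) = W := by
  rw [← Scheme.Hom.comp_preimage, zeroL_prL]
  rfl

/-- Restriction to the zero section is evaluation at zero. -/
theorem zeroL_psiL (W : X.Opens) (v : Polynomial Γ(X, W)) :
    (zeroL X).appLE (prL X ⁻¹ᵁ W) W (le_zeroL X W) (psiL X W v) = v.eval 0 := by
  suffices h : ((zeroL X).appLE (prL X ⁻¹ᵁ W) W (le_zeroL X W)).hom.comp (psiL X W) = Polynomial.evalRingHom 0 from
    congrArg (fun φ : Polynomial Γ(X, W) →+* Γ(X, W) => φ v) h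
  refine Polynomial.ringHom_ext (fun a => ?_) ?_
  · rw [RingHom.comp_apply, psiL_C]
    show ((prL X).app W ≫ (zeroL X).appLE _ _ _) a = _
    rw [(prL X).app_eq_appLE, Scheme.Hom.appLE_comp_appLE]
    simp only [zeroL_prL]
    rw [Polynomial.coe_evalRingHom, Polynomial.eval_C]
    erw [Scheme.Hom.appLE, Category.id_comp]
    exact congr($(X.presheaf.map_id (op W)) a)
  · rw [RingHom.comp_apply, psiL_X, Polynomial.coe_evalRingHom, Polynomial.eval_X]
    show ((A1 X).presheaf.map _ ≫ (zeroL X).appLE _ _ _) (tL X) = _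
    rw [Scheme.Hom.map_appLE, Scheme.Hom.appLE, CommRingCat.comp_apply]
    erw [zeroL_tL, map_zero]

/-- Multiplication by the coordinate. -/
def mulT : Coh.structureModule (A1 X) ⟶ Coh.structureModule (A1 X) :=
  H11Tilde.homOfGlobal (Coh.structureModule (A1 X)) (show Γ(Coh.structureModule (A1 X), ⊤) from tL X)

/-- Evaluation at the zero section. -/
def evalT : Coh.structureModule (A1 X) ⟶ (Scheme.Modules.pushforward (zeroL X)).obj (Coh.structureModule X) :=
  H11Tilde.homOfGlobal _ (show Γ((Scheme.Modules.pushforward (zeroL X)).obj (Coh.structureModule X), ⊤) from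
    (1 : Γ(X, zeroL X ⁻¹ᵁ ⊤)))

theorem mulT_app (V : (A1 X).Opens) (r : Γ(A1 X, V)) :
    (mulT X).app V r = r * (A1 X).presheaf.map (homOfLE (le_top : V ≤ ⊤)).op (tL X) := rfl

theorem evalT_app (V : (A1 X).Opens) (r : Γ(A1 X, V)) :
    (evalT X).app V r = (zeroL X).app V r := by
  show ((zeroL X).app V r) * _ = _
  refine (congrArg ((zeroL X).app V r * ·) ?_).trans (mul_one _)
  exact map_one (X.presheaf.map _).hom

theorem mulT_evalT : mulT X ≫ evalT X = 0 := by
  refine Scheme.Modules.hom_ext _ _ fun V => ?_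
  ext r
  show (evalT X).app V ((mulT X).app V r) = 0
  rw [mulT_app, evalT_app, map_mul]
  suffices h0 : (zeroL X).app V ((A1 X).presheaf.map (homOfLE (le_top : V ≤ ⊤)).op (tL X)) = 0 by
    rw [h0]
    exact @mul_zero Γ(X, zeroL X ⁻¹ᵁ V) _ _
  refine (congr($((zeroL X).naturality (homOfLE (le_top : V ≤ ⊤)).op) (tL X))).trans ?_
  show X.presheaf.map _ ((zeroL X).appTop (tL X)) = 0
  rw [zeroL_tL, map_zero]

/-- Around every point there is the preimage of an affine open, inside a given preimage. -/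
theorem exists_pre_affine {x : A1 X} {V : X.Opens} (hx : x ∈ prL X ⁻¹ᵁ V) :
    ∃ W : X.Opens, IsAffineOpen W ∧ W ≤ V ∧ x ∈ prL X ⁻¹ᵁ W := by
  obtain ⟨W, hW, hxW, hle⟩ := exists_isAffineOpen_mem_and_subset (x := prL X x) (U := V) hx
  exact ⟨W, hW, hle, hxW⟩

/-- `0 → O → O → s_* O → 0` on the affine line. -/
theorem shortExact_mulT : (ShortComplex.mk (mulT X) (evalT X) (mulT_evalT X)).ShortExact := by
  let F := Coh.structureModule (A1 X)
  haveI : (Coh.structureModule (A1 X)).IsQuasicoherent := H10Coh.isQuasicoherent_unit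
  haveI : (Coh.structureModule X).IsQuasicoherent := H10Coh.isQuasicoherent_unit
  haveI : ((Scheme.Modules.pushforward (zeroL X)).obj (Coh.structureModule X)).IsQuasicoherent :=
    H10Coh.isQuasicoherent_pushforward (zeroL X) _
  have hcov : ⨆ W : X.affineOpens, prL X ⁻¹ᵁ W.1 = ⊤ := eq_top_iff.2 fun x _ => by
    obtain ⟨W, hW, -, hxW⟩ := exists_pre_affine X (x := x) (V := ⊤) trivial
    exact Opens.mem_iSup.2 ⟨⟨W, hW⟩, hxW⟩
  have hcov' : ∀ x, ∃ W : X.affineOpens, x ∈ prL X ⁻¹ᵁ W.1 := fun x => Opens.mem_iSup.1 (hcov ▸ trivial)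
  have haff : ∀ W : X.affineOpens, IsAffineOpen (prL X ⁻¹ᵁ W.1) := fun W => W.2.preimage _
  have hmono : ∀ W : X.affineOpens, Function.Injective ((mulT X).app (prL X ⁻¹ᵁ W.1)) := fun W a b hab => by
    obtain ⟨p, rfl⟩ := (psiL_bijective X W.2).2 a
    obtain ⟨q, rfl⟩ := (psiL_bijective X W.2).2 b
    have h : psiL X W.1 (p * Polynomial.X) = psiL X W.1 (q * Polynomial.X) := by
      rw [map_mul, map_mul, psiL_X]
      exact hab
    refine congrArg _ (Polynomial.ext fun k => ?_)
    have h' := congrArg (fun r => Polynomial.coeff r (k + 1)) ((psiL_bijective X W.2).1 h)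
    simpa using h'
  haveI : Mono (mulT X) := by
    haveI : (kernel (mulT X)).IsQuasicoherent := H10Coh.isQuasicoherent_kernel _
    refine Preadditive.mono_of_kernel_zero ((H10Coh.Tw.isZero_of_qcoh_cover _ _ haff hcov' fun W => ?_).eq_of_src _ _)
    refine ⟨fun a b => ?_⟩
    refine H10Coh.injective_app_of_mono' (kernel.ι (mulT X)) _ (hmono W ?_)
    have h0 : ∀ c, (mulT X).app (prL X ⁻¹ᵁ W.1) ((kernel.ι (mulT X)).app (prL X ⁻¹ᵁ W.1) c) = 0 := fun c =>
      congr($(congr(Scheme.Modules.Hom.app $(kernel.condition (mulT X)) (prL X ⁻¹ᵁ W.1))) c)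
    rw [h0 a, h0 b]
  have hker : ∀ (W : X.affineOpens) (a : Γ(A1 X, prL X ⁻¹ᵁ W.1)), (evalT X).app (prL X ⁻¹ᵁ W.1) a = 0 →
      ∃ b, (mulT X).app (prL X ⁻¹ᵁ W.1) b = a := fun W a ha => by
    obtain ⟨p, rfl⟩ := (psiL_bijective X W.2).2 a
    have h0 : p.eval 0 = 0 := by
      rw [← zeroL_psiL X W.1 p, Scheme.Hom.appLE, CommRingCat.comp_apply]
      rw [evalT_app] at ha
      erw [ha]
      exact map_zero _
    obtain ⟨r, rfl⟩ := Polynomial.X_dvd_iff.2 (show p.coeff 0 = 0 by rwa [Polynomial.coeff_zero_eq_eval_zero])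
    refine ⟨psiL X W.1 r, ?_⟩
    rw [mul_comm Polynomial.X r, map_mul, psiL_X]
    rfl
  have hsurj : ∀ (W : X.affineOpens), Function.Surjective ((evalT X).app (prL X ⁻¹ᵁ W.1)) := fun W a => by
    let a' : Γ(X, W.1) := X.presheaf.map (eqToHom (zeroL_pre_eq X W.1).symm).op a
    refine ⟨psiL X W.1 (Polynomial.C a'), ?_⟩
    have h := zeroL_psiL X W.1 (Polynomial.C a')
    rw [Polynomial.eval_C, Scheme.Hom.appLE, CommRingCat.comp_apply] at h
    rw [evalT_app]
    haveI : IsIso (X.presheaf.map (eqToHom (zeroL_pre_eq X W.1).symm).op) := inferInstance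
    refine (ConcreteCategory.bijective_of_isIso (X.presheaf.map (eqToHom (zeroL_pre_eq X W.1).symm).op)).1 ?_
    rw [show (eqToHom (zeroL_pre_eq X W.1).symm) = homOfLE (le_zeroL X W.1) from Subsingleton.elim _ _]
    exact h
  haveI : Epi (evalT X) := by
    haveI : (cokernel (evalT X)).IsQuasicoherent := H10Coh.isQuasicoherent_cokernel _
    refine Preadditive.epi_of_cokernel_zero ((H10Coh.Tw.isZero_of_qcoh_cover _ _ haff hcov' fun W => ?_).eq_of_tgt _ _)
    refine subsingleton_of_forall_eq 0 fun a => ?_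
    obtain ⟨b, rfl⟩ := H10Coh.surjective_app_of_epi (cokernel.π (evalT X)) (haff W) a
    obtain ⟨c, rfl⟩ := hsurj W b
    exact congr($(congr(Scheme.Modules.Hom.app $(cokernel.condition (evalT X)) (prL X ⁻¹ᵁ W.1))) c)
  haveI : Epi (kernel.lift (evalT X) (mulT X) (mulT_evalT X)) := by
    haveI : (kernel (evalT X)).IsQuasicoherent := H10Coh.isQuasicoherent_kernel _
    haveI : (cokernel (kernel.lift (evalT X) (mulT X) (mulT_evalT X))).IsQuasicoherent :=
      H10Coh.isQuasicoherent_cokernel _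
    refine Preadditive.epi_of_cokernel_zero ((H10Coh.Tw.isZero_of_qcoh_cover _ _ haff hcov' fun W => ?_).eq_of_tgt _ _)
    refine subsingleton_of_forall_eq 0 fun a => ?_
    obtain ⟨b, rfl⟩ := H10Coh.surjective_app_of_epi (cokernel.π _) (haff W) a
    obtain ⟨c, hc⟩ := hker W ((kernel.ι (evalT X)).app _ b)
      (congr($(congr(Scheme.Modules.Hom.app $(kernel.condition (evalT X)) (prL X ⁻¹ᵁ W.1))) b))
    have hb : b = (kernel.lift (evalT X) (mulT X) (mulT_evalT X)).app (prL X ⁻¹ᵁ W.1) c := by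
      refine H10Coh.injective_app_of_mono' (kernel.ι (evalT X)) _ (hc.symm.trans ?_)
      exact congr($(congr(Scheme.Modules.Hom.app $(kernel.lift_ι (evalT X) (mulT X) (mulT_evalT X)) (prL X ⁻¹ᵁ W.1))) c).symm
    rw [hb]
    exact congr($(congr(Scheme.Modules.Hom.app $(cokernel.condition (kernel.lift (evalT X) (mulT X) (mulT_evalT X))) (prL X ⁻¹ᵁ W.1))) c)
  exact { exact := (ShortComplex.exact_iff_epi_kernel_lift _).2 ‹_› }

variable [IsNoetherian X]

theorem isNoetherian_A1 : IsNoetherian (A1 X) := by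
  haveI : LocallyOfFiniteType (prL X) := inferInstance
  haveI : CompactSpace ↥(A1 X) := QuasiCompact.compactSpace_of_compactSpace (prL X)
  haveI : IsLocallyNoetherian (A1 X) := LocallyOfFiniteType.isLocallyNoetherian (prL X)
  exact {}

/-- The class of the zero section vanishes. -/
theorem clSub_zeroL_structure :
    KZero.clSub (fun M : (A1 X).Modules => Coh.IsCoh M)
      ((Scheme.Modules.pushforward (zeroL X)).obj (Coh.structureModule X)) = 0 := by
  haveI := isNoetherian_A1 X
  have h := clSub_isAdd (P := fun M : (A1 X).Modules => Coh.IsCoh M) _ (shortExact_mulT X)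
    (H10Coh.isCoh_structureModule' _) (H10Coh.isCoh_structureModule' _)
    (H24FSch.isCoh_pushforward_of_isClosedImmersion (zeroL X) (H10Coh.isCoh_structureModule' X))
  simpa using h

end Groth.Agent.H16Derived.GTheory
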