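import Groth.Agent.H16Derived.GTheory.FlatNoeth
import Groth.Agent.H17.ConsPropBasic
import Groth.Agent.H8Props.ClosedBaseChange
import Groth.Agent.H10Inj.SheafExt.ChangeRings
import Groth.Agent.H02CA.KcohNilp
import Groth.Agent.H10Coh.TensorTilde

/-!
# `K₀` of coherent modules generated on the fibres

If classes of bundles generate `K₀` of every fibre of a flat morphism, the classes `[E_j ⊗ f^* N]` generate
`K₀` of the source.
-/

set_option autoImplicit false
set_option linter.style.haveILetI false
set_option linter.unusedSectionVars false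

universe u

open CategoryTheory CategoryTheory.Limits AlgebraicGeometry TopologicalSpace ZeroObject

namespace Groth.Agent.H16Derived.GTheory

open H16Derived.KFlat.Stalk (pullTensorLIso isCoh_of_isFinLocFree)

variable {X S : Scheme.{u}} [IsNoetherian X] [IsNoetherian S] (f : X ⟶ S) [Flat f]
  {ι : Type*} (E : ι → X.Modules) (hE : ∀ j, FlatMod.IsFinLocFree (E j))
  (R : AddSubgroup (SGA6.Kcoh X))
  (hR : ∀ (j : ι) (N : S.Modules), Coh.IsCoh N → KZero.clSub (fun M : X.Modules => Coh.IsCoh M)
    (((DCoh.tensorBi (X := X)).obj (E j)).obj ((Scheme.Modules.pullback f).obj N)) ∈ R)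
  (hfib : ∀ s : S, AddSubgroup.closure (Set.range fun j : ι =>
    KZero.clSub (fun M : (f.fiber s).Modules => Coh.IsCoh M) ((Scheme.Modules.pullback (f.fiberι s)).obj (E j))) = ⊤)

/-- All classes of modules supported over `C` lie in `R`. -/
def Over (C : Closeds S) : Prop :=
  ∀ M : X.Modules, Coh.IsCoh M → CohB1.support M ⊆ f ⁻¹' (C : Set S) →
    KZero.clSub (fun M : X.Modules => Coh.IsCoh M) M ∈ R

/-- Dévissage to integral closed subschemes. -/
theorem mem_of_devissage (T : Set X)
    (h : ∀ (W : Scheme.{u}) (w : W ⟶ X) [IsClosedImmersion w] [IsIntegral W], Set.range w ⊆ T →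
      ∀ I : W.Modules, Coh.IsCoh I →
        KZero.clSub (fun M : X.Modules => Coh.IsCoh M) ((Scheme.Modules.pushforward w).obj I) ∈ R)
    {M : X.Modules} (hM : Coh.IsCoh M) (hs : CohB1.support M ⊆ T) :
    KZero.clSub (fun M : X.Modules => Coh.IsCoh M) M ∈ R := by
  have hQ := isAbClass_isCoh X
  refine LeadDev.devissage_induction T
    (fun M => Coh.IsCoh M → KZero.clSub (fun M : X.Modules => Coh.IsCoh M) M ∈ R)
    (fun M N e hm hN => ?_) (fun M hz hM => ?_) (fun S hS h1 h2 h3 p1 p3 _ => ?_) ?_ M hM hs hM
  · obtain ⟨e⟩ := e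
    rw [← (clSub_isAdd (P := fun M : X.Modules => Coh.IsCoh M)).map_iso hQ (isSub_self hQ) e (hQ.iso e.symm hN)]
    exact hm (hQ.iso e.symm hN)
  · rw [(clSub_isAdd (P := fun M : X.Modules => Coh.IsCoh M)).map_zero (isSub_self hQ) hz]
    exact R.zero_mem
  · rw [clSub_isAdd (P := fun M : X.Modules => Coh.IsCoh M) S hS h1 h2 h3]
    exact R.add_mem (p1 h1) (p3 h3)
  · intro W w _ _ hr _ I j _ hI _
    haveI : IsNoetherian W := isNoetherian_of_closed w
    exact h W w hr I (H10Coh.isCoh_of_mono j hI (H10Coh.isCoh_structureModule' W))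

theorem support_push_subset {W : Scheme.{u}} (w : W ⟶ X) [IsClosedImmersion w] (M : W.Modules) :
    CohB1.support ((Scheme.Modules.pushforward w).obj M) ⊆ w '' CohB1.support M := by
  intro x hx
  by_cases h : x ∈ Set.range w
  · obtain ⟨z, rfl⟩ := h
    refine ⟨z, fun hz => hx ?_, rfl⟩
    haveI := hz
    exact (H16Derived.ProjFormula.pushStalk_bijective w M z).1.subsingleton
  · haveI := H16Derived.ProjFormula.subsingleton_stalk_push w M x h
    exact absurd this hx

include hE hR hfib in
/-- The step at an irreducible closed subset. -/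
theorem over_closure (η : S) (C : Closeds S) (hC : (C : Set S) = closure {η})
    (ih : ∀ C' : Closeds S, C' < C → Over f R C')
    {W : Scheme.{u}} (w : W ⟶ X) [IsClosedImmersion w] [IsIntegral W] (hw : Set.range w ⊆ f ⁻¹' (C : Set S))
    {I : W.Modules} (hI : Coh.IsCoh I) :
    KZero.clSub (fun M : X.Modules => Coh.IsCoh M) ((Scheme.Modules.pushforward w).obj I) ∈ R := by
  classical
  obtain ⟨Z, i, hZi, hZn, hi, hri⟩ :=
    H17.ConsProp.exists_integral_closed (C : Set S) C.isClosed (hC ▸ isIrreducible_singleton.closure)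
  haveI := hZi
  haveI := hZn
  haveI := hi
  -- the base change
  let XZ : Scheme.{u} := pullback f i
  let i' : XZ ⟶ X := pullback.fst f i
  let fZ : XZ ⟶ Z := pullback.snd f i
  have H : IsPullback i' fZ f i := IsPullback.of_hasPullback f i
  haveI : IsClosedImmersion i' := MorphismProperty.of_isPullback H.flip inferInstance
  haveI : IsNoetherian XZ := isNoetherian_of_closed i'
  have hr' : Set.range i' = f ⁻¹' (C : Set S) := by
    rw [← hri]
    exact Scheme.Pullback.range_fst (f := f) (g := i)
  obtain ⟨a, ha⟩ := H17.exists_lift_of_range_subset w i' (hr' ▸ hw)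
  subst ha
  haveI : IsClosedImmersion a := IsClosedImmersion.of_comp a i'
  haveI : PreservesFiniteLimits (Scheme.Modules.pushforward i') :=
    (Scheme.Modules.pullbackPushforwardAdjunction i').rightAdjoint_preservesLimits.{0, 0}.preservesFiniteLimits
  haveI : (Scheme.Modules.pushforward i').IsRightAdjoint :=
    (Scheme.Modules.pullbackPushforwardAdjunction i').isRightAdjoint
  haveI : (Scheme.Modules.pushforward i').Additive := Functor.additive_of_preserves_binary_products _
  haveI : (Scheme.Modules.pushforward i').PreservesHomology := H16Derived.ProjFormula.preservesHomology_push i'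
  haveI : PreservesFiniteColimits (Scheme.Modules.pushforward i') :=
    (Scheme.Modules.pushforward i').preservesFiniteColimits_of_preservesHomology
  let PZ : ObjectProperty XZ.Modules := fun M => Coh.IsCoh M
  let PX : ObjectProperty X.Modules := fun M => Coh.IsCoh M
  let pushZ := SGA6.mapSub (Scheme.Modules.pushforward i') PZ PX
    (fun M hM => H24FSch.isCoh_pushforward_of_isClosedImmersion i' hM)
  suffices hH : R.comap pushZ = ⊤ by
    have hIa : Coh.IsCoh ((Scheme.Modules.pushforward a).obj I) := H24FSch.isCoh_pushforward_of_isClosedImmersion a hI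
    have h := hH.ge (AddSubgroup.mem_top (KZero.clSub PZ ((Scheme.Modules.pushforward a).obj I)))
    rw [AddSubgroup.mem_comap] at h
    rw [mapSub_clSub (P := PZ) (Q := PX) _ _ hIa] at h
    rw [← (clSub_isAdd (P := PX)).map_iso (isAbClass_isCoh X) (isSub_self (isAbClass_isCoh X))
      ((Scheme.Modules.pushforwardComp a i').app I) (H24FSch.isCoh_pushforward_of_isClosedImmersion i' hIa)]
    exact h
  -- the generic fibre
  obtain ⟨γ, hγ⟩ := H17.exists_lift_of_range_subset (S.fromSpecResidueField η) i (by
    rw [Scheme.range_fromSpecResidueField, hri, hC]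
    exact Set.singleton_subset_iff.2 (subset_closure rfl))
  haveI : IsPreimmersion (γ ≫ i) := by rw [hγ]; infer_instance
  haveI : IsPreimmersion γ := IsPreimmersion.of_comp γ i
  have hγp : ∀ p, i (γ p) = η := fun p => by
    have h : (γ ≫ i) p ∈ ({η} : Set S) := by
      rw [← Scheme.range_fromSpecResidueField (x := η), ← hγ]
      exact ⟨p, rfl⟩
    exact h
  have hgen : ∀ p, γ p = genericPoint Z := fun p => by
    refine ((genericPoint_spec Z).eq ?_).symm
    show closure {γ p} = Set.univ
    rw [i.isEmbedding.isInducing.closure_eq_preimage_closure_image, Set.image_singleton, hγp, ← hC, ← hri]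
    exact Set.preimage_range i
  haveI : Flat γ := by
    refine Flat.iff_flat_stalkMap γ |>.2 fun p => ?_
    let e := Z.presheaf.stalkCongr (Inseparable.of_eq (hgen p))
    have hF : IsField (Z.presheaf.stalk (γ p)) :=
      e.commRingCatIsoToRingEquiv.toMulEquiv.isField (Field.toIsField Z.functionField)
    letI := hF.toField
    algebraize [(γ.stalkMap p).hom]
    show Module.Flat (Z.presheaf.stalk (γ p)) ((Spec (S.residueField η)).presheaf.stalk p)
    infer_instance
  let g : f.fiber η ⟶ XZ := pullback.lift (f.fiberι η) (f.fiberToSpecResidueField η ≫ γ) (by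
    rw [Category.assoc, hγ]
    exact pullback.condition)
  have hg1 : g ≫ i' = f.fiberι η := pullback.lift_fst _ _ _
  have hsq : IsPullback g (f.fiberToSpecResidueField η) fZ γ := by
    refine IsPullback.of_right ?_ (pullback.lift_snd _ _ _) H
    rw [hg1, hγ]
    exact IsPullback.of_hasPullback f (S.fromSpecResidueField η)
  haveI : IsPreimmersion g := MorphismProperty.of_isPullback hsq.flip ‹IsPreimmersion γ›
  haveI : Flat g := MorphismProperty.of_isPullback hsq.flip ‹Flat γ›
  haveI : IsNoetherian (f.fiber η) := isNoetherian_of_flat_preimmersion g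
  haveI : QuasiCompact g := ⟨fun _ _ _ => NoetherianSpace.isCompact _⟩
  haveI : QuasiSeparated g := QuasiSeparated.of_quasiSeparatedSpace g
  haveI := preservesFiniteLimits_pullback g
  haveI := (Scheme.Modules.pullbackPushforwardAdjunction g).isLeftAdjoint
  haveI : (Scheme.Modules.pullback g).Additive := Functor.additive_of_preserves_binary_products _
  haveI : PreservesFiniteColimits (Scheme.Modules.pullback g) :=
    (Scheme.Modules.pullbackPushforwardAdjunction g).leftAdjoint_preservesColimits.{0, 0}.preservesFiniteColimits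
  -- modules vanishing on the generic fibre
  have hker := ker_pullback_le g (fun M hM => isCoh_pull g hM) (R.comap pushZ) fun M hM hz => by
    rw [AddSubgroup.mem_comap, mapSub_clSub (P := PZ) (Q := PX) _ _ hM]
    refine mem_of_devissage R (f ⁻¹' (C : Set S) ∩ f ⁻¹' {η}ᶜ) (fun W' w' _ _ hw' I' hI' => ?_)
      (H24FSch.isCoh_pushforward_of_isClosedImmersion i' hM) fun x hx => ?_
    · let ξ := f (w' (genericPoint W'))
      let C' : Closeds S := ⟨closure {ξ}, isClosed_closure⟩
      have hξ := hw' ⟨genericPoint W', rfl⟩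
      have hle : (C' : Set S) ⊆ C := closure_minimal (Set.singleton_subset_iff.2 hξ.1) C.isClosed
      have hlt : C' < C := by
        refine lt_of_le_of_ne hle fun h => hξ.2 ?_
        have h1 : closure ({ξ} : Set S) = closure {η} := by
          rw [← hC, ← h]
          rfl
        exact (inseparable_iff_closure_eq.2 h1).eq
      refine ih C' hlt _ (H24FSch.isCoh_pushforward_of_isClosedImmersion w' hI') fun y hy => ?_
      obtain ⟨z, -, rfl⟩ := support_push_subset w' I' hy
      exact ((genericPoint_spec W').specializes (Set.mem_univ z)).map (f.continuous.comp w'.continuous)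
        |>.mem_closure
    · obtain ⟨z, hz', rfl⟩ := support_push_subset i' M hx
      refine ⟨hr'.le ⟨z, rfl⟩, fun h => ?_⟩
      obtain ⟨u, hu⟩ := (f.range_fiberι η).ge h
      have hzu : g u = z := i'.isEmbedding.injective (by
        show (g ≫ i') u = i' z
        rw [hg1, hu])
      exact stalk_subsingleton_of_isZero_pullback g hz hz' ⟨u, hzu⟩
  -- the generators
  let gj : ι → SGA6.Kcoh XZ := fun j => KZero.clSub PZ ((Scheme.Modules.pullback i').obj (E j))
  let pullZ := SGA6.mapSub (Scheme.Modules.pullback g) PZ (fun M : (f.fiber η).Modules => Coh.IsCoh M)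
    (fun M hM => isCoh_pull g hM)
  have hEc : ∀ j, Coh.IsCoh ((Scheme.Modules.pullback i').obj (E j)) := fun j =>
    isCoh_pull i' (isCoh_of_isFinLocFree (hE j))
  have hmem : ∀ j, gj j ∈ R.comap pushZ := fun j => by
    rw [AddSubgroup.mem_comap, mapSub_clSub (P := PZ) (Q := PX) _ _ (hEc j)]
    have hN : Coh.IsCoh ((Scheme.Modules.pushforward i).obj (Coh.structureModule Z)) :=
      H24FSch.isCoh_pushforward_of_isClosedImmersion i (H10Coh.isCoh_structureModule' Z)
    have hjN : Coh.IsCoh (((DCoh.tensorBi (X := X)).obj (E j)).obj ((Scheme.Modules.pullback f).obj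
        ((Scheme.Modules.pushforward i).obj (Coh.structureModule Z)))) :=
      H10Coh.TT.isCoh_tensorMod (isCoh_of_isFinLocFree (hE j)) (isCoh_pull f hN)
    refine Eq.subst ?_ (hR j _ hN)
    let T := DCoh.tensorBi (X := X)
    let e : (T.obj (E j)).obj ((Scheme.Modules.pullback f).obj ((Scheme.Modules.pushforward i).obj
        (Coh.structureModule Z))) ≅ (Scheme.Modules.pushforward i').obj ((Scheme.Modules.pullback i').obj (E j)) :=
      H02CA.KcohNilp.symm' _ _ ≪≫
        (T.mapIso ((H8Props.ClosedBC.baseChangeIso H.flip).app (Coh.structureModule Z) ≪≫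
          (Scheme.Modules.pushforward i').mapIso (PicLoc.pullbackStructureIso fZ))).app (E j) ≪≫
        (H10Inj.SheafExt.projIso i' (Coh.structureModule XZ)).app (E j) ≪≫
        (Scheme.Modules.pushforward i').mapIso (H02CA.KcohNilp.unitL _)
    exact (clSub_isAdd (P := PX)).map_iso (isAbClass_isCoh X) (isSub_self (isAbClass_isCoh X)) e hjN
  -- conclusion
  have hgen' : AddSubgroup.map pullZ (AddSubgroup.closure (Set.range gj)) = ⊤ := by
    rw [AddMonoidHom.map_closure, ← Set.range_comp, ← hfib η]
    refine congrArg _ (congrArg Set.range (funext fun j => ?_))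
    show pullZ (gj j) = _
    rw [mapSub_clSub (P := PZ) (Q := fun M : (f.fiber η).Modules => Coh.IsCoh M) _ _ (hEc j)]
    exact (clSub_isAdd (P := fun M : (f.fiber η).Modules => Coh.IsCoh M)).map_iso (isAbClass_isCoh _)
      (isSub_self (isAbClass_isCoh _))
      ((Scheme.Modules.pullbackComp g i').app (E j) ≪≫ (Scheme.Modules.pullbackCongr hg1).app (E j))
      (isCoh_pull g (hEc j))
  rw [eq_top_iff]
  intro x _
  obtain ⟨y, hy, hxy⟩ := hgen'.ge (AddSubgroup.mem_top (pullZ x))
  have hy' : y ∈ R.comap pushZ := (AddSubgroup.closure_le _).2 (Set.range_subset_iff.2 hmem) hy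
  have hd : x - y ∈ R.comap pushZ := hker (by
    show pullZ (x - y) = 0
    rw [map_sub, hxy, sub_self])
  simpa using add_mem hd hy'

include hE hR hfib in
/-- The classes `[E_j ⊗ f^* N]` generate. -/
theorem eq_top_of_fibres : R = ⊤ := by
  have key : ∀ C : Closeds S, Over f R C := fun C => by
    induction C using WellFoundedLT.induction with
    | _ C ih =>
      intro M hM hs
      refine mem_of_devissage R (f ⁻¹' (C : Set S)) (fun W w _ _ hw I hI => ?_) hM hs
      let η := f (w (genericPoint W))
      let C' : Closeds S := ⟨closure {η}, isClosed_closure⟩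
      have hle : C' ≤ C := closure_minimal (Set.singleton_subset_iff.2 (hw ⟨genericPoint W, rfl⟩)) C.isClosed
      refine over_closure f E hE R hR hfib η C' rfl (fun D hD => ih D (lt_of_lt_of_le hD hle)) w ?_ hI
      rintro _ ⟨z, rfl⟩
      exact ((genericPoint_spec W).specializes (Set.mem_univ z)).map (f.continuous.comp w.continuous)
        |>.mem_closure
  refine H27KZero.closure_eq_top (P := fun M : X.Modules => Coh.IsCoh M) R fun M hM => ?_
  exact key ⊤ M hM (fun x _ => trivial)

end Groth.Agent.H16Derived.GTheory
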