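import Groth.Agent.H16Derived.GTheory.AffineLine
import Groth.Agent.H16Derived.GTheory.Fibres

/-!
# Direct images along the zero section of the affine line have class zero
-/

set_option autoImplicit false
set_option linter.style.haveILetI false
set_option linter.unusedSectionVars false

universe u

open CategoryTheory CategoryTheory.Limits AlgebraicGeometry TopologicalSpace ZeroObject

namespace Groth.Agent.H16Derived.GTheory

theorem exact_pushforward {X Y : Scheme.{u}} (i : X ⟶ Y) [IsClosedImmersion i] {S : ShortComplex X.Modules}
    (hS : S.ShortExact) :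
    haveI := (Scheme.Modules.pullbackPushforwardAdjunction i).isRightAdjoint
    haveI : (Scheme.Modules.pushforward i).Additive := Functor.additive_of_preserves_binary_products _
    (S.map (Scheme.Modules.pushforward i)).ShortExact := by
  haveI := (Scheme.Modules.pullbackPushforwardAdjunction i).isRightAdjoint
  haveI : (Scheme.Modules.pushforward i).Additive := Functor.additive_of_preserves_binary_products _
  haveI : (Scheme.Modules.pushforward i).PreservesHomology := H16Derived.ProjFormula.preservesHomology_push i
  haveI : PreservesFiniteColimits (Scheme.Modules.pushforward i) :=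
    (Scheme.Modules.pushforward i).preservesFiniteColimits_of_preservesHomology
  haveI : PreservesFiniteLimits (Scheme.Modules.pushforward i) :=
    (Scheme.Modules.pushforward i).preservesFiniteLimits_of_preservesHomology
  exact hS.map_of_exact _

/-- Direct images along the zero section have class zero. -/
theorem clSub_zeroL (X : Scheme.{u}) [IsNoetherian X] {N : X.Modules} (hN : Coh.IsCoh N) :
    KZero.clSub (fun M : (A1 X).Modules => Coh.IsCoh M) ((Scheme.Modules.pushforward (zeroL X)).obj N) = 0 := by
  haveI := isNoetherian_A1 X
  let c : X.Modules → SGA6.Kcoh (A1 X) := fun N =>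
    KZero.clSub (fun M : (A1 X).Modules => Coh.IsCoh M) ((Scheme.Modules.pushforward (zeroL X)).obj N)
  have hc : IsAdd (fun M : X.Modules => Coh.IsCoh M) c := fun S hS h₁ h₂ h₃ =>
    clSub_isAdd (P := fun M : (A1 X).Modules => Coh.IsCoh M) _ (exact_pushforward (zeroL X) hS)
      (H24FSch.isCoh_pushforward_of_isClosedImmersion _ h₁) (H24FSch.isCoh_pushforward_of_isClosedImmersion _ h₂)
      (H24FSch.isCoh_pushforward_of_isClosedImmersion _ h₃)
  have hQ := isAbClass_isCoh X
  refine LeadDev.devissage_induction Set.univ (fun M => Coh.IsCoh M → c M = 0)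
    (fun M N e hm hN => ?_) (fun M hz _ => hc.map_zero (isSub_self hQ) hz) (fun S hS h1 h2 h3 p1 p3 _ => ?_) ?_
    N hN (Set.subset_univ _) hN
  · obtain ⟨e⟩ := e
    exact (hc.map_iso hQ (isSub_self hQ) e (hQ.iso e.symm hN)).symm.trans (hm (hQ.iso e.symm hN))
  · rw [hc S hS h1 h2 h3, p1 h1, p3 h3, add_zero]
  intro W w _ _ _ hsmall I ι _ hI hwI
  haveI : IsNoetherian W := isNoetherian_of_closed w
  have hIc : Coh.IsCoh I := H10Coh.isCoh_of_mono ι hI (H10Coh.isCoh_structureModule' W)
  by_cases hξ : w (genericPoint W) ∈ CohB1.support ((Coh.push w).obj I)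
  swap
  · refine hsmall _ hwI ?_ hξ hwI
    exact (support_push_subset w I).trans (Set.image_subset_range _ _)
  have hO := H10Coh.isCoh_structureModule' W
  have hC : Coh.IsCoh (cokernel ι) := H10Coh.isCoh_cokernel ι hI hO
  have hwC : Coh.IsCoh ((Scheme.Modules.pushforward w).obj (cokernel ι)) :=
    H24FSch.isCoh_pushforward_of_isClosedImmersion w hC
  have hwO : Coh.IsCoh ((Scheme.Modules.pushforward w).obj (Coh.structureModule W)) :=
    H24FSch.isCoh_pushforward_of_isClosedImmersion w hO
  -- the cokernel vanishes at the generic point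
  have h1 : c ((Scheme.Modules.pushforward w).obj (cokernel ι)) = 0 := by
    refine hsmall _ hwC ((support_push_subset w _).trans (Set.image_subset_range _ _)) ?_ hwC
    intro hs
    obtain ⟨z, hz, hzw⟩ := support_push_subset w _ hs
    obtain rfl := w.isEmbedding.injective hzw
    obtain ⟨z', hz', hzw'⟩ := support_push_subset w _ hξ
    obtain rfl := w.isEmbedding.injective hzw'
    let η := genericPoint W
    have hinj : Function.Injective (H06Mod.stalkLin ι η) := (H8Props.FunDescent.mono_iff ι).1 inferInstance η
    have hsurjπ : Function.Surjective (H06Mod.stalkLin (cokernel.π ι) η) :=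
      (H8Props.FunDescent.epi_iff _).1 inferInstance η
    haveI : Nontrivial (I.presheaf.stalk η) := not_subsingleton_iff_nontrivial.1 hz'
    obtain ⟨a, ha⟩ := exists_ne (0 : I.presheaf.stalk η)
    let e := (H11Ample.isGen_one (X := W) ⊤ η trivial)
    obtain ⟨r, hr⟩ := e.2 (H06Mod.stalkLin ι η a)
    have hr0 : r ≠ 0 := fun h => ha (hinj (by rw [← hr, h, map_zero]; exact zero_smul _ _))
    refine hz (subsingleton_of_forall_eq 0 fun b => ?_)
    obtain ⟨y, rfl⟩ := hsurjπ b
    obtain ⟨q, rfl⟩ := e.2 y
    have hu : IsUnit r := (Field.toIsField W.functionField).mul_inv_cancel hr0 |>.elim fun s hs =>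
      isUnit_iff_exists_inv.2 ⟨s, hs⟩
    obtain ⟨s, hs⟩ := hu.exists_left_inv
    have hq : (q * s) • H06Mod.stalkLin ι η a =
        q • ((Coh.structureModule W).presheaf.germ ⊤ η trivial (H11Ample.one ⊤)) := by
      rw [← hr, smul_smul, mul_assoc, hs, mul_one]
    show H06Mod.stalkLin (cokernel.π ι) η (q • _) = 0
    rw [← hq, map_smul]
    have h0 : H06Mod.stalkLin (cokernel.π ι) η (H06Mod.stalkLin ι η a) = 0 := by
      show ((DerSch.stalkFunctor W η).map (cokernel.π ι)).hom (((DerSch.stalkFunctor W η).map ι).hom a) = 0
      rw [← LinearMap.comp_apply, ← ModuleCat.hom_comp, ← Functor.map_comp, cokernel.condition, Functor.map_zero]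
      rfl
    rw [h0, smul_zero]
  -- the structure sheaf
  have h2 : c ((Scheme.Modules.pushforward w).obj (Coh.structureModule W)) = 0 := by
    let w' := AffineSpace.map I1.{u} w
    haveI : IsClosedImmersion w' :=
      MorphismProperty.of_isPullback (AffineSpace.isPullback_map w).flip inferInstance
    have hw' : zeroL W ≫ w' = w ≫ zeroL X := by
      refine AffineSpace.hom_ext ?_ fun j => ?_
      · simp [w', AffineSpace.homOfVector_over]
      · rw [Scheme.Hom.comp_appTop, Scheme.Hom.comp_appTop, CommRingCat.comp_apply, CommRingCat.comp_apply,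
          AffineSpace.map_appTop_coord, AffineSpace.homOfVector_appTop_coord,
          AffineSpace.homOfVector_appTop_coord, map_zero]
    haveI := isNoetherian_A1 W
    let P : ObjectProperty (A1 X).Modules := fun M => Coh.IsCoh M
    let PW : ObjectProperty (A1 W).Modules := fun M => Coh.IsCoh M
    haveI := (Scheme.Modules.pullbackPushforwardAdjunction w').isRightAdjoint
    haveI : (Scheme.Modules.pushforward w').Additive := Functor.additive_of_preserves_binary_products _
    haveI : (Scheme.Modules.pushforward w').PreservesHomology := H16Derived.ProjFormula.preservesHomology_push w'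
    haveI : PreservesFiniteColimits (Scheme.Modules.pushforward w') :=
      (Scheme.Modules.pushforward w').preservesFiniteColimits_of_preservesHomology
    haveI : PreservesFiniteLimits (Scheme.Modules.pushforward w') :=
      (Scheme.Modules.pushforward w').preservesFiniteLimits_of_preservesHomology
    have hz : Coh.IsCoh ((Scheme.Modules.pushforward (zeroL W)).obj (Coh.structureModule W)) :=
      H24FSch.isCoh_pushforward_of_isClosedImmersion _ hO
    have h := congrArg (SGA6.mapSub (Scheme.Modules.pushforward w') PW P
      (fun M hM => H24FSch.isCoh_pushforward_of_isClosedImmersion w' hM)) (clSub_zeroL_structure W)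
    rw [map_zero, mapSub_clSub (P := PW) (Q := P) _ _ hz] at h
    refine Eq.trans ?_ h
    exact ((clSub_isAdd (P := P)).map_iso (isAbClass_isCoh _) (isSub_self (isAbClass_isCoh _))
      ((Scheme.Modules.pushforwardComp (zeroL W) w').app _ ≪≫
        (Scheme.Modules.pushforwardCongr hw').app _ ≪≫
        ((Scheme.Modules.pushforwardComp w (zeroL X)).app _).symm)
      (H24FSch.isCoh_pushforward_of_isClosedImmersion w' hz)).symm
  have h3 := hc _ (exact_pushforward w ({ exact := ShortComplex.exact_cokernel ι } :
    (ShortComplex.mk ι (cokernel.π ι) (cokernel.condition ι)).ShortExact)) hwI hwO hwC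
  have h4 : c ((Coh.push w).obj I) + c ((Scheme.Modules.pushforward w).obj (cokernel ι)) =
      c ((Scheme.Modules.pushforward w).obj (Coh.structureModule W)) := h3.symm
  rw [h1, h2, add_zero] at h4
  exact h4

end Groth.Agent.H16Derived.GTheory
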