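import Groth.Agent.H16Derived.GTheory.AffineLineZero
import Groth.Agent.H16Derived.KFlat.FlatCover
import Groth.Agent.H16Derived.KFlat.FlatIff
import Groth.Agent.H16Derived.KFlat.TorAmp
import Groth.Agent.H16Derived.KFlat.FlatCriterion
import Groth.Agent.H16Derived.KFlat.SheafAssoc
import Groth.Agent.H16Derived.KFlat.RestrictD
import Groth.Agent.H02CA.KcohNilp
import Groth.Agent.H06Equidim.AffineSpace
import Mathlib.Algebra.Homology.ShortComplex.SnakeLemma

/-!
# The Gysin map of the zero section of the affine line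
-/

set_option autoImplicit false
set_option linter.style.haveILetI false
set_option linter.unusedSectionVars false
set_option backward.isDefEq.respectTransparency false

universe u

open CategoryTheory CategoryTheory.Limits AlgebraicGeometry ZeroObject
open Groth.Agent.H16Derived.KFlat Groth.Agent.H16Derived.KFlat.Stalk

noncomputable section

namespace Groth.Agent.H16Derived.GTheory

section SixTerm

variable {A : Type*} [Category A] [Abelian A] {Q P : A → Prop} {G : Type*} [AddCommGroup G]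

/-- In an exact sequence `A → B → C` the value at `B` is the sum of the values at the two images. -/
theorem IsAdd.exact_split (hQ : IsAbClass Q) (hP : IsSub Q P)
    {c : A → G} (hc : IsAdd P c) {S : ShortComplex A} (hS : S.Exact) (h₁ : P S.X₁) (h₂ : P S.X₂) (h₃ : P S.X₃) :
    P (Abelian.image S.f) ∧ P (Abelian.image S.g) ∧
      c S.X₂ = c (Abelian.image S.f) + c (Abelian.image S.g) := by
  have hker : P (kernel S.g) := hP.sub (kernel.ι S.g) (hQ.kernel _ (hP.le h₂) (hP.le h₃)) h₂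
  haveI : Epi (kernel.lift S.g S.f S.zero) := S.exact_iff_epi_kernel_lift.1 hS
  haveI : Epi S.abelianImageToKernel :=
    epi_of_epi_fac (show Abelian.factorThruImage S.f ≫ S.abelianImageToKernel = kernel.lift S.g S.f S.zero by
      rw [← cancel_mono (kernel.ι S.g), Category.assoc, S.abelianImageToKernel_comp_kernel_ι,
        Abelian.image.fac, kernel.lift_ι])
  haveI : IsIso S.abelianImageToKernel := isIso_of_mono_of_epi _
  have hf : P (Abelian.image S.f) := hP.iso hQ (asIso S.abelianImageToKernel).symm hker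
  have hg : P (Abelian.image S.g) :=
    hP.quot (Abelian.factorThruImage S.g) (hQ.image S.g (hP.le h₂) (hP.le h₃)) h₂
  refine ⟨hf, hg, ?_⟩
  rw [hc.map_iso hQ hP (asIso S.abelianImageToKernel) hf]
  let T : ShortComplex A := ShortComplex.mk (kernel.ι S.g) (Abelian.factorThruImage S.g) (by
    rw [← cancel_mono (Abelian.image.ι S.g), Category.assoc, Abelian.image.fac, kernel.condition, zero_comp])
  have hT : T.ShortExact :=
    { exact := ShortComplex.exact_of_f_is_kernel _ (isKernelOfComp (Abelian.image.ι S.g) S.g (kernelIsKernel S.g)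
        T.zero (Abelian.image.fac S.g)) }
  exact hc T hT hker h₂ hg

/-- The alternating sum over a six-term exact sequence vanishes. -/
theorem IsAdd.six_term (hQ : IsAbClass Q) (hP : IsSub Q P)
    {c : A → G} (hc : IsAdd P c) {a₁ a₂ a₃ b₁ b₂ b₃ : A} (f₁ : a₁ ⟶ a₂) (f₂ : a₂ ⟶ a₃) (d : a₃ ⟶ b₁)
    (g₁ : b₁ ⟶ b₂) (g₂ : b₂ ⟶ b₃) [Mono f₁] [Epi g₂] (w₁ : f₁ ≫ f₂ = 0) (w₂ : f₂ ≫ d = 0) (w₃ : d ≫ g₁ = 0)
    (w₄ : g₁ ≫ g₂ = 0) (e₁ : (ShortComplex.mk f₁ f₂ w₁).Exact) (e₂ : (ShortComplex.mk f₂ d w₂).Exact)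
    (e₃ : (ShortComplex.mk d g₁ w₃).Exact) (e₄ : (ShortComplex.mk g₁ g₂ w₄).Exact)
    (p₁ : P a₁) (p₂ : P a₂) (p₃ : P a₃) (q₁ : P b₁) (q₂ : P b₂) (q₃ : P b₃) :
    c b₂ - c a₂ = (c b₁ - c a₁) + (c b₃ - c a₃) := by
  obtain ⟨i₁, i₂, h₁⟩ := hc.exact_split hQ hP e₁ p₁ p₂ p₃
  obtain ⟨-, i₃, h₂⟩ := hc.exact_split hQ hP e₂ p₂ p₃ q₁
  obtain ⟨-, i₄, h₃⟩ := hc.exact_split hQ hP e₃ p₃ q₁ q₂
  obtain ⟨-, i₅, h₄⟩ := hc.exact_split hQ hP e₄ q₁ q₂ q₃
  have ha : c (Abelian.image f₁) = c a₁ :=
    (hc.map_iso hQ hP (asIso (Abelian.factorThruImage f₁)) p₁).symm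
  have hb : c (Abelian.image g₂) = c b₃ := hc.map_iso hQ hP (asIso (Abelian.image.ι g₂)) i₅
  simp only at h₁ h₂ h₃ h₄
  rw [ha] at h₁
  rw [hb] at h₄
  rw [h₁, h₂, h₃, h₄]
  abel

end SixTerm

variable (X : Scheme.{u})

/-- `M ↦ M ⊗ O` is the identity. -/
def tensUnit (Z : Scheme.{u}) :
    (DCoh.tensorBi (X := Z)).flip.obj (Coh.structureModule Z) ≅ 𝟭 Z.Modules :=
  (tensorRightModIso (Coh.structureModule Z)).symm ≪≫ tensorUnitModIso

/-- Multiplication by the coordinate on modules of the line. -/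
def thetaT : 𝟭 (A1 X).Modules ⟶ 𝟭 (A1 X).Modules :=
  (tensUnit (A1 X)).inv ≫ (DCoh.tensorBi (X := A1 X)).flip.map (mulT X) ≫ (tensUnit (A1 X)).hom

/-- The direct image of the structure sheaf of the zero section. -/
abbrev sO : (A1 X).Modules := (Scheme.Modules.pushforward (zeroL X)).obj (Coh.structureModule X)

/-- `s^* (M ⊗ s_* O) ≅ s^* M`, naturally. -/
def pullSO : (DCoh.tensorBi (X := A1 X)).flip.obj (sO X) ⋙ Scheme.Modules.pullback (zeroL X) ≅
    Scheme.Modules.pullback (zeroL X) :=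
  haveI := H16Derived.ProjFormula.isIso_counit_of_isClosedImmersion (zeroL X) (Coh.structureModule X)
  pullTensorLIso (zeroL X) (sO X) ≪≫ Functor.isoWhiskerLeft _
    ((DCoh.tensorBi (X := X)).flip.mapIso
      (asIso ((Scheme.Modules.pullbackPushforwardAdjunction (zeroL X)).counit.app (Coh.structureModule X))) ≪≫
      tensUnit X) ≪≫ Functor.rightUnitor _

/-- Modules tensored with `s_* O` are killed by the ideal of the zero section. -/
theorem killed_tensor_sO (M : (A1 X).Modules) :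
    H16Derived.ProjFormula.Killed (zeroL X) (((DCoh.tensorBi (X := A1 X)).flip.obj (sO X)).obj M) := by
  have hK := H16Derived.ProjFormula.killed_push (zeroL X) (Coh.structureModule X)
  refine ⟨fun x r hr a => ?_, fun y hy => ?_⟩
  · obtain ⟨t, rfl⟩ := (stalkEquiv M (sO X) ((zeroL X).base x)).surjective a
    refine ((stalkEquiv M (sO X) ((zeroL X).base x)).map_smul r t).symm.trans ?_
    refine Eq.trans (congrArg _ ?_) (map_zero _)
    induction t using TensorProduct.induction_on with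
    | zero => exact smul_zero _
    | tmul a b => rw [← TensorProduct.tmul_smul, hK.smul_eq_zero x r hr b, TensorProduct.tmul_zero]
    | add a b ha hb => rw [smul_add, ha, hb, add_zero]
  · haveI := hK.subsingleton y hy
    exact (stalkEquiv M (sO X) y).toEquiv.symm.subsingleton

theorem isIso_unit_tensor_sO (M : (A1 X).Modules) :
    IsIso ((cAdj (zeroL X)).unit.app (((DCoh.tensorBi (X := A1 X)).flip.obj (sO X)).obj M)) :=
  H16Derived.ProjFormula.isIso_unit_of_killed _ (killed_tensor_sO X M)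

/-- The projection `M → M ⊗ s_* O`. -/
def chiT : 𝟭 (A1 X).Modules ⟶ (DCoh.tensorBi (X := A1 X)).flip.obj (sO X) :=
  (tensUnit (A1 X)).inv ≫ (DCoh.tensorBi (X := A1 X)).flip.map (evalT X)

theorem theta_chi (M : (A1 X).Modules) : (thetaT X).app M ≫ (chiT X).app M = 0 := by
  let T := (DCoh.tensorBi (X := A1 X)).obj M
  show (((tensUnit (A1 X)).app M).inv ≫ T.map (mulT X) ≫ ((tensUnit (A1 X)).app M).hom) ≫
    (((tensUnit (A1 X)).app M).inv ≫ T.map (evalT X)) = 0
  rw [Category.assoc, Category.assoc, Iso.hom_inv_id_assoc, ← T.map_comp, mulT_evalT]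
  haveI : PreservesFiniteColimits T := PreservesColimitsOfSize.preservesFiniteColimits.{u, u} T
  haveI : T.Additive := inferInstance
  rw [Functor.map_zero, comp_zero]

/-- `M → M → M ⊗ s_* O → 0` is exact. -/
theorem exact_theta_chi (M : (A1 X).Modules) :
    (ShortComplex.mk ((thetaT X).app M) ((chiT X).app M) (theta_chi X M)).Exact ∧ Epi ((chiT X).app M) := by
  let T := (DCoh.tensorBi (X := A1 X)).obj M
  haveI : PreservesFiniteColimits T := PreservesColimitsOfSize.preservesFiniteColimits.{u, u} T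
  haveI : T.Additive := inferInstance
  haveI := (shortExact_mulT X).epi_g
  let S₀ := ShortComplex.mk (mulT X) (evalT X) (mulT_evalT X)
  have h := (shortExact_mulT X).exact.map_of_epi_of_preservesCokernel T inferInstance inferInstance
  let a := (tensUnit (A1 X)).app M
  refine ⟨ShortComplex.exact_of_iso (S₁ := (ShortComplex.mk (mulT X) (evalT X) (mulT_evalT X)).map T) (ShortComplex.isoMk a a (Iso.refl _) ?_ ?_) h,
    epi_comp' (inferInstanceAs (Epi a.inv)) (inferInstanceAs (Epi (T.map (evalT X))))⟩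
  · show a.hom ≫ (a.inv ≫ T.map (mulT X) ≫ a.hom) = T.map (mulT X) ≫ a.hom
    rw [Iso.hom_inv_id_assoc]
  · show a.hom ≫ (a.inv ≫ T.map (evalT X)) = T.map (evalT X) ≫ 𝟙 _
    rw [Iso.hom_inv_id_assoc, Category.comp_id]

/-- `coker θ_M ≅ M ⊗ s_* O`. -/
theorem nonempty_cokernel_theta (M : (A1 X).Modules) :
    Nonempty (cokernel ((thetaT X).app M) ≅ ((DCoh.tensorBi (X := A1 X)).flip.obj (sO X)).obj M) := by
  haveI := (exact_theta_chi X M).2
  exact ⟨(cokernelIsCokernel _).coconePointUniqueUpToIso (exact_theta_chi X M).1.gIsCokernel⟩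

variable [IsNoetherian X]

theorem onClosed_cokernel_theta {M : (A1 X).Modules} (hM : Coh.IsCoh M) :
    haveI := isNoetherian_A1 X
    OnClosed (zeroL X) (cokernel ((thetaT X).app M)) := by
  haveI := isNoetherian_A1 X
  have hc : Coh.IsCoh (cokernel ((thetaT X).app M)) := H10Coh.isCoh_cokernel _ hM.1 hM
  obtain ⟨e⟩ := nonempty_cokernel_theta X M
  haveI := isIso_unit_tensor_sO X M
  exact (isSub_onClosed (zeroL X)).iso (isAbClass_isCoh _) e.symm
    ⟨(isAbClass_isCoh (A1 X)).iso e hc, inferInstance⟩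

theorem onClosed_kernel_theta {M : (A1 X).Modules} (hM : Coh.IsCoh M) :
    haveI := isNoetherian_A1 X
    OnClosed (zeroL X) (kernel ((thetaT X).app M)) := by
  haveI := isNoetherian_A1 X
  have hK : Coh.IsCoh (kernel ((thetaT X).app M)) := H10Coh.isCoh_kernel _ hM hM.1
  have h0 : (thetaT X).app (kernel ((thetaT X).app M)) = 0 := by
    rw [← cancel_mono (kernel.ι ((thetaT X).app M)), zero_comp]
    exact ((thetaT X).naturality (kernel.ι ((thetaT X).app M))).symm.trans (kernel.condition _)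
  exact (isSub_onClosed (zeroL X)).iso (isAbClass_isCoh _)
    (cokernelIsoOfEq h0 ≪≫ cokernelZeroIsoTarget) (onClosed_cokernel_theta X hK)

/-- The class on `X` of a module on the zero section. -/
abbrev gam (N : (A1 X).Modules) : SGA6.Kcoh X :=
  KZero.clSub (fun M : X.Modules => Coh.IsCoh M) ((Scheme.Modules.pullback (zeroL X)).obj N)

theorem isAdd_gam :
    haveI := isNoetherian_A1 X
    IsAdd (OnClosed (zeroL X)) (gam X) := by
  haveI := isNoetherian_A1 X
  intro S hS h₁ h₂ h₃
  let i := zeroL X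
  haveI : ∀ N, IsIso ((cAdj i).counit.app N) := H16Derived.ProjFormula.isIso_counit_of_isClosedImmersion i
  haveI : IsIso (cAdj i).counit := NatIso.isIso_of_isIso_app _
  haveI : (Scheme.Modules.pushforward i).Faithful := (cAdj i).fullyFaithfulROfIsIsoCounit.faithful
  haveI : (Scheme.Modules.pullback i).IsLeftAdjoint := (cAdj i).isLeftAdjoint
  haveI : (Scheme.Modules.pushforward i).IsRightAdjoint := (cAdj i).isRightAdjoint
  haveI : (Scheme.Modules.pushforward i).Additive := Functor.additive_of_preserves_binary_products _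
  haveI : (Scheme.Modules.pushforward i).PreservesHomology := H16Derived.ProjFormula.preservesHomology_push i
  let T := S.map (Scheme.Modules.pullback i)
  let e : S ≅ T.map (Scheme.Modules.pushforward i) :=
    ShortComplex.isoMk (@asIso _ _ _ _ ((cAdj i).unit.app S.X₁) h₁.2) (@asIso _ _ _ _ ((cAdj i).unit.app S.X₂) h₂.2)
      (@asIso _ _ _ _ ((cAdj i).unit.app S.X₃) h₃.2) ((cAdj i).unit.naturality S.f).symm ((cAdj i).unit.naturality S.g).symm
  have hT' := ShortComplex.shortExact_of_iso e hS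
  haveI := hT'.mono_f
  haveI := hT'.epi_g
  have hT : T.ShortExact :=
    { exact := (ShortComplex.exact_map_iff_of_faithful T (Scheme.Modules.pushforward i)).1 hT'.exact
      mono_f := (Scheme.Modules.pushforward i).mono_of_mono_map
        (show Mono ((Scheme.Modules.pushforward i).map T.f) from hT'.mono_f)
      epi_g := (Scheme.Modules.pushforward i).epi_of_epi_map
        (show Epi ((Scheme.Modules.pushforward i).map T.g) from hT'.epi_g) }
  exact clSub_isAdd (P := fun M : X.Modules => Coh.IsCoh M) T hT (isCoh_pull i h₁.1) (isCoh_pull i h₂.1)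
    (isCoh_pull i h₃.1)

/-- The Gysin class. -/
abbrev gys (M : (A1 X).Modules) : SGA6.Kcoh X :=
  gam X (cokernel ((thetaT X).app M)) - gam X (kernel ((thetaT X).app M))

theorem isAdd_gys : IsAdd (fun M : (A1 X).Modules => Coh.IsCoh M) (gys X) := by
  haveI := isNoetherian_A1 X
  intro S hS h₁ h₂ h₃
  have hP := isSub_onClosed (zeroL X)
  have hQ := isAbClass_isCoh (A1 X)
  haveI := hS.mono_f
  haveI := hS.epi_g
  let φ : S ⟶ S :=
    { τ₁ := (thetaT X).app S.X₁
      τ₂ := (thetaT X).app S.X₂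
      τ₃ := (thetaT X).app S.X₃
      comm₁₂ := ((thetaT X).naturality S.f).symm
      comm₂₃ := ((thetaT X).naturality S.g).symm }
  let SI : ShortComplex.SnakeInput (A1 X).Modules :=
    { L₀ := kernel φ
      L₁ := S
      L₂ := S
      L₃ := cokernel φ
      v₀₁ := kernel.ι φ
      v₁₂ := φ
      v₂₃ := cokernel.π φ
      h₀ := kernelIsKernel φ
      h₃ := cokernelIsCokernel φ
      L₁_exact := hS.exact
      epi_L₁_g := hS.epi_g
      L₂_exact := hS.exact
      mono_L₂_f := hS.mono_f }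
  let k₁ : SI.L₀.X₁ ≅ kernel ((thetaT X).app S.X₁) := PreservesKernel.iso ShortComplex.π₁ φ
  let k₂ : SI.L₀.X₂ ≅ kernel ((thetaT X).app S.X₂) := PreservesKernel.iso ShortComplex.π₂ φ
  let k₃ : SI.L₀.X₃ ≅ kernel ((thetaT X).app S.X₃) := PreservesKernel.iso ShortComplex.π₃ φ
  let c₁ : SI.L₃.X₁ ≅ cokernel ((thetaT X).app S.X₁) := PreservesCokernel.iso ShortComplex.π₁ φ
  let c₂ : SI.L₃.X₂ ≅ cokernel ((thetaT X).app S.X₂) := PreservesCokernel.iso ShortComplex.π₂ φ
  let c₃ : SI.L₃.X₃ ≅ cokernel ((thetaT X).app S.X₃) := PreservesCokernel.iso ShortComplex.π₃ φ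
  have pk₁ := hP.iso hQ k₁.symm (onClosed_kernel_theta X h₁)
  have pk₂ := hP.iso hQ k₂.symm (onClosed_kernel_theta X h₂)
  have pk₃ := hP.iso hQ k₃.symm (onClosed_kernel_theta X h₃)
  have pc₁ := hP.iso hQ c₁.symm (onClosed_cokernel_theta X h₁)
  have pc₂ := hP.iso hQ c₂.symm (onClosed_cokernel_theta X h₂)
  have pc₃ := hP.iso hQ c₃.symm (onClosed_cokernel_theta X h₃)
  haveI : Mono SI.L₁.f := hS.mono_f
  haveI : Epi SI.L₂.g := hS.epi_g
  haveI : Mono SI.L₀.f := SI.mono_L₀_f
  haveI : Epi SI.L₃.g := SI.epi_L₃_g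
  have hg := isAdd_gam X
  have h := hg.six_term hQ hP SI.L₀.f SI.L₀.g SI.δ SI.L₃.f SI.L₃.g
    SI.L₀.zero SI.L₀_g_δ SI.δ_L₃_f SI.L₃.zero SI.L₀_exact SI.L₁'_exact SI.L₂'_exact SI.L₃_exact
    pk₁ pk₂ pk₃ pc₁ pc₂ pc₃
  rw [hg.map_iso hQ hP k₁ pk₁, hg.map_iso hQ hP k₂ pk₂, hg.map_iso hQ hP k₃ pk₃,
    hg.map_iso hQ hP c₁ pc₁, hg.map_iso hQ hP c₂ pc₂, hg.map_iso hQ hP c₃ pc₃] at h
  exact h

/-- Multiplication by the coordinate is injective on modules pulled back from `X`. -/
theorem mono_theta_pullback (N : X.Modules) :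
    Mono ((thetaT X).app ((Scheme.Modules.pullback (prL X)).obj N)) := by
  haveI : AlgebraicGeometry.Flat (prL X) := H06Equidim.flat_affineSpace I1.{u}
  haveI := preservesFiniteLimits_pullback_of_flat (prL X)
  let pr := Scheme.Modules.pullback (prL X)
  haveI : pr.IsLeftAdjoint := (Scheme.Modules.pullbackPushforwardAdjunction (prL X)).isLeftAdjoint
  haveI : pr.Additive := Functor.additive_of_preserves_binary_products _
  haveI : PreservesFiniteColimits pr :=
    @PreservesColimitsOfSize.preservesFiniteColimits.{0, 0} _ _ _ _ _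
      (Scheme.Modules.pullbackPushforwardAdjunction (prL X)).leftAdjoint_preservesColimits
  let π := (coverπ (X := X)).app N
  let S : ShortComplex X.Modules := ShortComplex.mk (kernel.ι π) π (kernel.condition π)
  haveI : Epi π := epi_coverπ N
  have hS : S.ShortExact := { exact := ShortComplex.exact_kernel π }
  have hS' := hS.map_of_exact pr
  let θ := thetaT X
  -- injective on the flat module
  have hflat : FlatMod.IsFlat (pr.obj S.X₂) := isFlat_pullback (prL X) (isFlat_cover N)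
  haveI hm₂ : Mono (θ.app (pr.obj S.X₂)) := by
    let T := (DCoh.tensorBi (X := A1 X)).obj (pr.obj S.X₂)
    haveI : Mono (T.map (mulT X)) := by
      have h := ((isFlat_iff_isFlatObj (pr.obj S.X₂)).1 hflat) _ (shortExact_mulT X)
      let e : T ≅ (DCoh.tensorBi (X := A1 X)).flip.obj (pr.obj S.X₂) :=
        H15Site.ModTensor.tLIso (O := (A1 X).sheaf) (pr.obj S.X₂)
      haveI : Mono (((DCoh.tensorBi (X := A1 X)).flip.obj (pr.obj S.X₂)).map (mulT X)) := h.mono_f
      rw [← NatIso.naturality_2 e (mulT X)]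
      infer_instance
    exact inferInstanceAs (Mono (((tensUnit (A1 X)).app _).inv ≫ T.map (mulT X) ≫ ((tensUnit (A1 X)).app _).hom))
  let φ : S.map pr ⟶ S.map pr :=
    { τ₁ := θ.app (pr.obj S.X₁)
      τ₂ := θ.app (pr.obj S.X₂)
      τ₃ := θ.app (pr.obj S.X₃)
      comm₁₂ := (θ.naturality (pr.map S.f)).symm
      comm₂₃ := (θ.naturality (pr.map S.g)).symm }
  haveI := hS'.mono_f
  haveI := hS'.epi_g
  haveI hm₁ : Mono φ.τ₁ := by
    haveI : Mono (φ.τ₁ ≫ (S.map pr).f) := by
      rw [φ.comm₁₂]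
      exact mono_comp' hS'.mono_f hm₂
    exact mono_of_mono φ.τ₁ (S.map pr).f
  let SI : ShortComplex.SnakeInput (A1 X).Modules :=
    { L₀ := kernel φ
      L₁ := S.map pr
      L₂ := S.map pr
      L₃ := cokernel φ
      v₀₁ := kernel.ι φ
      v₁₂ := φ
      v₂₃ := cokernel.π φ
      h₀ := kernelIsKernel φ
      h₃ := cokernelIsCokernel φ
      L₁_exact := hS'.exact
      epi_L₁_g := hS'.epi_g
      L₂_exact := hS'.exact
      mono_L₂_f := hS'.mono_f }
  have hz : IsZero SI.L₀.X₂ := (isZero_kernel_of_mono φ.τ₂).of_iso (PreservesKernel.iso ShortComplex.π₂ φ)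
  haveI : Mono SI.δ := SI.mono_δ hz
  -- `coker θ` on pullbacks is `s_*`
  let i := zeroL X
  let T₀ := (DCoh.tensorBi (X := A1 X)).flip.obj (sO X)
  have key : ∀ {M M' : X.Modules} (g : M ⟶ M'), Mono g → Mono (T₀.map (pr.map g)) := fun {M M'} g hg => by
    haveI := isIso_unit_tensor_sO X (pr.obj M)
    haveI := isIso_unit_tensor_sO X (pr.obj M')
    let j : pr ⋙ T₀ ⋙ Scheme.Modules.pullback i ≅ 𝟭 X.Modules :=
      Functor.isoWhiskerLeft pr (pullSO X) ≪≫
        Scheme.Modules.pullbackComp i (prL X) ≪≫ Scheme.Modules.pullbackCongr (zeroL_prL X) ≪≫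
          Scheme.Modules.pullbackId X
    haveI : Mono ((Scheme.Modules.pullback i).map (T₀.map (pr.map g))) := by
      have hn := j.hom.naturality g
      haveI : Mono (j.hom.app M ≫ (𝟭 X.Modules).map g) := mono_comp' inferInstance hg
      haveI : Mono ((Scheme.Modules.pullback i).map (T₀.map (pr.map g)) ≫ j.hom.app M') := by
        erw [hn]; infer_instance
      exact mono_of_mono _ (j.hom.app M')
    haveI : (Scheme.Modules.pushforward i).IsRightAdjoint := (cAdj i).isRightAdjoint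
    haveI : Mono ((T₀.map (pr.map g)) ≫ (cAdj i).unit.app (T₀.obj (pr.obj M'))) := by
      have hn := (cAdj i).unit.naturality (T₀.map (pr.map g))
      rw [show T₀.map (pr.map g) ≫ (cAdj i).unit.app (T₀.obj (pr.obj M')) = _ from hn]
      exact mono_comp' inferInstance (inferInstanceAs (Mono ((Scheme.Modules.pushforward i).map
        ((Scheme.Modules.pullback i).map (T₀.map (pr.map g))))))
    exact mono_of_mono _ ((cAdj i).unit.app (T₀.obj (pr.obj M')))
  haveI : Mono SI.L₃.f := by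
    haveI := (exact_theta_chi X (pr.obj S.X₁)).2
    haveI : Epi SI.v₂₃.τ₁ := SI.epi_v₂₃_τ₁
    haveI := (exact_theta_chi X (pr.obj S.X₂)).2
    let e₁ := SI.h₃τ₁.coconePointUniqueUpToIso (exact_theta_chi X (pr.obj S.X₁)).1.gIsCokernel
    let e₂ := SI.h₃τ₂.coconePointUniqueUpToIso (exact_theta_chi X (pr.obj S.X₂)).1.gIsCokernel
    have he₁ : SI.v₂₃.τ₁ ≫ e₁.hom = (chiT X).app (pr.obj S.X₁) :=
      IsColimit.comp_coconePointUniqueUpToIso_hom SI.h₃τ₁ _ WalkingParallelPair.one
    have he₂ : SI.v₂₃.τ₂ ≫ e₂.hom = (chiT X).app (pr.obj S.X₂) :=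
      IsColimit.comp_coconePointUniqueUpToIso_hom SI.h₃τ₂ _ WalkingParallelPair.one
    have hk := key S.f hS.mono_f
    have hc : SI.L₃.f ≫ e₂.hom = e₁.hom ≫ T₀.map (pr.map S.f) := by
      rw [← cancel_epi SI.v₂₃.τ₁, ← Category.assoc, ← Category.assoc, he₁, SI.v₂₃.comm₁₂, Category.assoc, he₂]
      exact (chiT X).naturality (pr.map S.f)
    haveI : Mono (SI.L₃.f ≫ e₂.hom) := by rw [hc]; exact mono_comp' inferInstance hk
    exact mono_of_mono _ e₂.hom
  have hz₃ : IsZero SI.L₀.X₃ := by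
    have h0 : SI.δ = 0 := by rw [← cancel_mono SI.L₃.f, zero_comp]; exact SI.δ_L₃_f
    exact IsZero.of_mono_eq_zero SI.δ h0
  exact Preadditive.mono_of_isZero_kernel φ.τ₃ (hz₃.of_iso (PreservesKernel.iso ShortComplex.π₃ φ).symm)

end Groth.Agent.H16Derived.GTheory
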