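import Groth.Agent.H16Derived.AcyclicLES
import Groth.Agent.H16Derived.GTheory.Gysin

/-!
# Additivity of Euler sums of right derived functors
-/

set_option autoImplicit false
set_option linter.style.haveILetI false

universe v v' u u'

open CategoryTheory CategoryTheory.Limits

namespace Groth.Agent.H16Derived.GTheory

variable {A : Type u} [Category.{v} A] [Abelian A] {B : Type u'} [Category.{v'} B] [Abelian B]
  {Q : B → Prop} {G : Type*} [AddCommGroup G]

/-- The alternating sum over a long exact sequence vanishes. -/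
theorem IsAdd.euler_shortExact (hQ : IsAbClass Q) (hP : IsSub Q Q) {c : B → G} (hc : IsAdd Q c)
    {T : ShortComplex (CochainComplex B ℤ)} (hT : T.ShortExact) (N : ℕ)
    (h₁ : ∀ k : ℕ, Q (T.X₁.homology k)) (h₂ : ∀ k : ℕ, Q (T.X₂.homology k)) (h₃ : ∀ k : ℕ, Q (T.X₃.homology k))
    (hneg : IsZero (T.X₃.homology (-1))) (htop : IsZero (T.X₁.homology ((N + 1 : ℕ) : ℤ))) :
    ∑ k ∈ Finset.range (N + 1), (-1 : ℤ) ^ k • c (T.X₂.homology k) =
      (∑ k ∈ Finset.range (N + 1), (-1 : ℤ) ^ k • c (T.X₁.homology k)) +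
        ∑ k ∈ Finset.range (N + 1), (-1 : ℤ) ^ k • c (T.X₃.homology k) := by
  let δ : ∀ k : ℕ, T.X₃.homology (k : ℤ) ⟶ T.X₁.homology ((k + 1 : ℕ) : ℤ) := fun k =>
    hT.δ (k : ℤ) ((k + 1 : ℕ) : ℤ) (by simp)
  let d : ℕ → G := fun k => c (Abelian.image (δ k))
  let u : ℕ → G := fun k => c (Abelian.image (HomologicalComplex.homologyMap T.f (k : ℤ)))
  let v : ℕ → G := fun k => c (Abelian.image (HomologicalComplex.homologyMap T.g (k : ℤ)))
  have e₂ : ∀ k : ℕ, c (T.X₂.homology (k : ℤ)) = u k + v k := fun k =>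
    (hc.exact_split hQ hP (hT.homology_exact₂ (k : ℤ)) (h₁ k) (h₂ k) (h₃ k)).2.2
  have e₃ : ∀ k : ℕ, c (T.X₃.homology (k : ℤ)) = v k + d k := fun k =>
    (hc.exact_split hQ hP (hT.homology_exact₃ (k : ℤ) ((k + 1 : ℕ) : ℤ) (by simp)) (h₂ k) (h₃ k) (h₁ (k + 1))).2.2
  have e₁ : ∀ k : ℕ, c (T.X₁.homology ((k + 1 : ℕ) : ℤ)) = d k + u (k + 1) := fun k =>
    (hc.exact_split hQ hP (hT.homology_exact₁ (k : ℤ) ((k + 1 : ℕ) : ℤ) (by simp)) (h₃ k) (h₁ (k + 1)) (h₂ (k + 1))).2.2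
  have e₀ : c (T.X₁.homology ((0 : ℕ) : ℤ)) = u 0 := by
    haveI : Mono (HomologicalComplex.homologyMap T.f ((0 : ℕ) : ℤ)) :=
      (hT.homology_exact₁ (-1) ((0 : ℕ) : ℤ) (by simp)).mono_g (hneg.eq_of_src _ _)
    exact hc.map_iso hQ hP (asIso (Abelian.factorThruImage (HomologicalComplex.homologyMap T.f ((0 : ℕ) : ℤ)))) (h₁ 0)
  have dN : d N = 0 :=
    hc.map_zero hP (IsZero.of_mono (Abelian.image.ι (δ N)) htop)
  have key : ∀ n : ℕ, (∑ k ∈ Finset.range (n + 1), (-1 : ℤ) ^ k • c (T.X₁.homology (k : ℤ))) +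
      (∑ k ∈ Finset.range (n + 1), (-1 : ℤ) ^ k • c (T.X₃.homology (k : ℤ))) =
      (∑ k ∈ Finset.range (n + 1), (-1 : ℤ) ^ k • c (T.X₂.homology (k : ℤ))) + (-1 : ℤ) ^ n • d n := by
    intro n
    induction n with
    | zero =>
      rw [Finset.sum_range_one, Finset.sum_range_one, Finset.sum_range_one, pow_zero, one_smul, one_smul,
        one_smul, one_smul, e₀, e₃, e₂]
      abel
    | succ n ih =>
      rw [Finset.sum_range_succ, Finset.sum_range_succ _ (n + 1), Finset.sum_range_succ _ (n + 1),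
        add_add_add_comm, ih, e₁, e₃, e₂, pow_succ, mul_neg_one]
      simp only [smul_add, neg_smul]
      abel
  have h := key N
  rw [dN, smul_zero, add_zero] at h
  exact h.symm

/-- The Euler sum of the right derived functors of a left exact functor is additive. -/
theorem IsAdd.euler_rightDerived [EnoughInjectives A] (F : A ⥤ B) [F.Additive] [PreservesFiniteLimits F]
    (hQ : IsAbClass Q) (hP : IsSub Q Q) {c : B → G} (hc : IsAdd Q c) {P : A → Prop} (N : ℕ)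
    (hmem : ∀ M, P M → ∀ k, Q ((F.rightDerived k).obj M))
    (htop : ∀ M, P M → IsZero ((F.rightDerived (N + 1)).obj M)) :
    IsAdd P fun M => ∑ k ∈ Finset.range (N + 1), (-1 : ℤ) ^ k • c ((F.rightDerived k).obj M) := by
  intro S hS p₁ p₂ p₃
  let S' := S.map (CochainComplex.singleFunctor A 0)
  have hS' : S'.ShortExact := hS.map_of_exact (HomologicalComplex.single A (ComplexShape.up ℤ) 0)
  have : S'.X₁.IsStrictlyGE 0 :=
    inferInstanceAs (((CochainComplex.singleFunctor A 0).obj S.X₁).IsStrictlyGE 0)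
  have : S'.X₃.IsStrictlyGE 0 :=
    inferInstanceAs (((CochainComplex.singleFunctor A 0).obj S.X₃).IsStrictlyGE 0)
  obtain ⟨T, φ, hT, h₁, h₂, h₃, hi, q₁, q₂, q₃⟩ := Horseshoe.exists_injective_resolution S' hS' 0
  let T' := T.map (F.mapHomologicalComplex (ComplexShape.up ℤ))
  have hT' : T'.ShortExact := AcyclicLES.shortExact_map_of_injective F hT fun k => (hi k).1
  have e₁ : ∀ n : ℕ, (F.rightDerived n).obj S.X₁ ≅ T'.X₁.homology n := fun n =>
    (@AcyclicLES.nonempty_rightDerived_iso A _ _ B _ _ F _ _ S.X₁ T.X₁ 0 h₁ (fun k => (hi k).1) φ.τ₁ q₁ n).some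
  have e₂ : ∀ n : ℕ, (F.rightDerived n).obj S.X₂ ≅ T'.X₂.homology n := fun n =>
    (@AcyclicLES.nonempty_rightDerived_iso A _ _ B _ _ F _ _ S.X₂ T.X₂ 0 h₂ (fun k => (hi k).2.1) φ.τ₂ q₂ n).some
  have e₃ : ∀ n : ℕ, (F.rightDerived n).obj S.X₃ ≅ T'.X₃.homology n := fun n =>
    (@AcyclicLES.nonempty_rightDerived_iso A _ _ B _ _ F _ _ S.X₃ T.X₃ 0 h₃ (fun k => (hi k).2.2) φ.τ₃ q₃ n).some
  have hneg : IsZero (T'.X₃.homology (-1)) := by
    refine (HomologicalComplex.exactAt_iff_isZero_homology _ _).1 ?_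
    haveI := h₃
    exact ShortComplex.exact_of_isZero_X₂ _ (F.map_isZero (T.X₃.isZero_of_isStrictlyGE 0 (-1) (by omega)))
  have h := hc.euler_shortExact hQ hP hT' N (fun k => hQ.iso (e₁ k) (hmem _ p₁ k))
    (fun k => hQ.iso (e₂ k) (hmem _ p₂ k)) (fun k => hQ.iso (e₃ k) (hmem _ p₃ k)) hneg
    ((htop _ p₁).of_iso (e₁ (N + 1)).symm)
  refine Eq.trans (Finset.sum_congr rfl fun k _ => ?_)
    (h.trans (congrArg₂ (· + ·) (Finset.sum_congr rfl fun k _ => ?_) (Finset.sum_congr rfl fun k _ => ?_)))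
  · exact congrArg _ (hc.map_iso hQ hP (e₂ k) (hmem _ p₂ k))
  · exact congrArg _ (hc.map_iso hQ hP (e₁ k) (hmem _ p₁ k)).symm
  · exact congrArg _ (hc.map_iso hQ hP (e₃ k) (hmem _ p₃ k)).symm

end Groth.Agent.H16Derived.GTheory
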