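import Groth.Agent.H27KZero.SerreSeq

/-!
# Dévissage for additive functions

An additive function on a class of objects closed under subobjects and quotients extends uniquely to the
objects which admit finite filtrations with graded pieces in the class.
-/

set_option autoImplicit false
set_option linter.style.haveILetI false
set_option linter.unusedSectionVars false

universe v u w

open CategoryTheory CategoryTheory.Limits ZeroObject

namespace Groth.Agent.H16Derived.GTheory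

open H27KZero.SerreSeq

variable {A : Type u} [Category.{v} A] [Abelian A]

/-! ### Two short exact sequences with the same middle term -/

section Cross

variable {N C N' C' M : A} {f : N ⟶ M} {p : M ⟶ C} {f' : N' ⟶ M} {p' : M ⟶ C'}
  {w : f ≫ p = 0} {w' : f' ≫ p' = 0}

theorem nonempty_kernel_iso (hS : (ShortComplex.mk f p w).ShortExact) (hT : (ShortComplex.mk f' p' w').ShortExact) :
    Nonempty (kernel (f' ≫ p) ≅ kernel (f ≫ p')) := by
  haveI : Mono f := hS.mono_f
  haveI : Mono f' := hT.mono_f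
  have h1 : (kernel.ι (f' ≫ p) ≫ f') ≫ p = 0 := by rw [Category.assoc, kernel.condition]
  have h2 : (kernel.ι (f ≫ p') ≫ f) ≫ p' = 0 := by rw [Category.assoc, kernel.condition]
  have a1 : hS.exact.lift _ h1 ≫ f = kernel.ι (f' ≫ p) ≫ f' := hS.exact.lift_f _ h1
  have a2 : hT.exact.lift _ h2 ≫ f' = kernel.ι (f ≫ p') ≫ f := hT.exact.lift_f _ h2
  refine ⟨⟨kernel.lift _ (hS.exact.lift _ h1) ?_, kernel.lift _ (hT.exact.lift _ h2) ?_, ?_, ?_⟩⟩
  · rw [← Category.assoc]
    refine (congrArg (· ≫ p') a1).trans ?_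
    rw [Category.assoc, w', comp_zero]
  · rw [← Category.assoc]
    refine (congrArg (· ≫ p) a2).trans ?_
    rw [Category.assoc, w, comp_zero]
  · rw [← cancel_mono (kernel.ι (f' ≫ p)), ← cancel_mono f', Category.assoc, Category.id_comp,
      Category.assoc, kernel.lift_ι_assoc]
    refine (congrArg (kernel.lift _ _ _ ≫ ·) a2).trans ?_
    rw [kernel.lift_ι_assoc]
    exact a1
  · rw [← cancel_mono (kernel.ι (f ≫ p')), ← cancel_mono f, Category.assoc, Category.id_comp,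
      Category.assoc, kernel.lift_ι_assoc]
    refine (congrArg (kernel.lift _ _ _ ≫ ·) a1).trans ?_
    rw [kernel.lift_ι_assoc]
    exact a2

theorem nonempty_cokernel_iso (hS : (ShortComplex.mk f p w).ShortExact) (hT : (ShortComplex.mk f' p' w').ShortExact) :
    Nonempty (cokernel (f' ≫ p) ≅ cokernel (f ≫ p')) := by
  haveI : Epi p := hS.epi_g
  haveI : Epi p' := hT.epi_g
  have h1 : f' ≫ p ≫ cokernel.π (f' ≫ p) = 0 := by rw [← Category.assoc, cokernel.condition]
  have h2 : f ≫ p' ≫ cokernel.π (f ≫ p') = 0 := by rw [← Category.assoc, cokernel.condition]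
  have a1 : p' ≫ hT.exact.desc _ h1 = p ≫ cokernel.π (f' ≫ p) := hT.exact.g_desc _ h1
  have a2 : p ≫ hS.exact.desc _ h2 = p' ≫ cokernel.π (f ≫ p') := hS.exact.g_desc _ h2
  refine ⟨⟨cokernel.desc _ (hS.exact.desc _ h2) ?_, cokernel.desc _ (hT.exact.desc _ h1) ?_, ?_, ?_⟩⟩
  · rw [Category.assoc]
    refine (congrArg (f' ≫ ·) a2).trans ?_
    rw [← Category.assoc, w', zero_comp]
  · rw [Category.assoc]
    refine (congrArg (f ≫ ·) a1).trans ?_
    rw [← Category.assoc, w, zero_comp]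
  · rw [← cancel_epi (cokernel.π (f' ≫ p)), ← cancel_epi p, cokernel.π_desc_assoc, Category.comp_id,
      reassoc_of% a2, cokernel.π_desc, a1]
  · rw [← cancel_epi (cokernel.π (f ≫ p')), ← cancel_epi p', cokernel.π_desc_assoc, Category.comp_id,
      reassoc_of% a1, cokernel.π_desc, a2]

end Cross

/-! ### Classes of objects -/

/-- A class closed under zero, isomorphisms, kernels and cokernels. -/
structure IsAbClass (Q : A → Prop) : Prop where
  zero : ∀ ⦃Z : A⦄, IsZero Z → Q Z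
  iso : ∀ ⦃M N : A⦄, (M ≅ N) → Q M → Q N
  kernel : ∀ ⦃M N : A⦄ (f : M ⟶ N), Q M → Q N → Q (kernel f)
  cokernel : ∀ ⦃M N : A⦄ (f : M ⟶ N), Q M → Q N → Q (cokernel f)

theorem IsAbClass.image {Q : A → Prop} (hQ : IsAbClass Q) {M N : A} (f : M ⟶ N) (hM : Q M) (hN : Q N) :
    Q (Abelian.image f) :=
  hQ.kernel _ hN (hQ.cokernel f hM hN)

/-- A subclass of `Q` closed under subobjects and quotients in `Q`. -/
structure IsSub (Q P : A → Prop) : Prop where
  le : ∀ ⦃M : A⦄, P M → Q M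
  zero : ∀ ⦃Z : A⦄, IsZero Z → P Z
  sub : ∀ ⦃K M : A⦄ (f : K ⟶ M) [Mono f], Q K → P M → P K
  quot : ∀ ⦃M C : A⦄ (f : M ⟶ C) [Epi f], Q C → P M → P C

/-- Extensions of two objects of `P`. -/
def Ext2 (Q P : A → Prop) (M : A) : Prop :=
  Q M ∧ ∃ (N C : A) (f : N ⟶ M) (p : M ⟶ C) (w : f ≫ p = 0), (ShortComplex.mk f p w).ShortExact ∧ P N ∧ P C

/-- Additive on the short exact sequences in `P`. -/
def IsAdd {G : Type w} [AddCommGroup G] (P : A → Prop) (c : A → G) : Prop :=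
  ∀ S : ShortComplex A, S.ShortExact → P S.X₁ → P S.X₂ → P S.X₃ → c S.X₂ = c S.X₁ + c S.X₃

variable {Q P : A → Prop}

theorem IsSub.iso (hQ : IsAbClass Q) (hP : IsSub Q P) {M N : A} (e : M ≅ N) (hM : P M) : P N :=
  hP.quot e.hom (hQ.iso e (hP.le hM)) hM

theorem le_ext2 (hP : IsSub Q P) {M : A} (hM : P M) : Ext2 Q P M :=
  ⟨hP.le hM, M, 0, 𝟙 M, 0, comp_zero,
    { exact := ShortComplex.exact_of_f_is_kernel _ (KernelFork.IsLimit.ofι' _ _ fun k _ => ⟨k, Category.comp_id k⟩)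
      epi_g := ⟨fun _ _ _ => (isZero_zero A).eq_of_src _ _⟩ },
    hM, hP.zero (isZero_zero A)⟩

theorem isSub_ext2 (hQ : IsAbClass Q) (hP : IsSub Q P) : IsSub Q (Ext2 Q P) where
  le M h := h.1
  zero Z h := le_ext2 hP (hP.zero h)
  sub K M j _ hK h := by
    obtain ⟨hM, N, C, f, p, w, hS, hN, hC⟩ := h
    haveI : Mono f := hS.mono_f
    have h0 : (kernel.ι (j ≫ p) ≫ j) ≫ p = 0 := by rw [Category.assoc, kernel.condition]
    haveI : Mono (hS.exact.lift _ h0) := mono_of_mono_fac (hS.exact.lift_f _ h0)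
    exact ⟨hK, _, _, _, _, _, shortExact_of_kernel_cokernel (j ≫ p),
      hP.sub (hS.exact.lift _ h0) (hQ.kernel _ hK (hP.le hC)) hN,
      hP.sub (Abelian.image.ι (j ≫ p)) (hQ.image _ hK (hP.le hC)) hC⟩
  quot M D e _ hD h := by
    obtain ⟨hM, N, C, f, p, w, hS, hN, hC⟩ := h
    haveI : Epi p := hS.epi_g
    have h0 : f ≫ e ≫ cokernel.π (f ≫ e) = 0 := by rw [← Category.assoc, cokernel.condition]
    haveI : Epi (hS.exact.desc _ h0) := epi_of_epi_fac (hS.exact.g_desc _ h0)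
    exact ⟨hD, _, _, _, _, _, shortExact_image _ (f ≫ e),
      hP.quot (Abelian.factorThruImage (f ≫ e)) (hQ.image _ (hP.le hN) hD) hN,
      hP.quot (hS.exact.desc _ h0) (hQ.cokernel _ (hP.le hN) hD) hC⟩

section Value

variable {G : Type w} [AddCommGroup G] {c : A → G}

theorem IsAdd.map_zero (hP : IsSub Q P) (hc : IsAdd P c) {Z : A} (hZ : IsZero Z) : c Z = 0 := by
  have h := hc _ (shortExact_of_iso (Iso.refl Z) hZ) (hP.zero hZ) (hP.zero hZ) (hP.zero hZ)
  simpa using h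

theorem IsAdd.map_iso (hQ : IsAbClass Q) (hP : IsSub Q P) (hc : IsAdd P c) {M N : A} (e : M ≅ N) (hM : P M) :
    c M = c N := by
  have hz := isZero_zero A
  have h := hc _ (shortExact_of_iso e hz) (hP.zero hz) hM (hP.iso hQ e hM)
  simpa [hc.map_zero hP hz] using h

/-- The value of an extension does not depend on the extension. -/
theorem value_unique (hQ : IsAbClass Q) (hP : IsSub Q P) (hc : IsAdd P c) {N C N' C' M : A}
    {f : N ⟶ M} {p : M ⟶ C} {f' : N' ⟶ M} {p' : M ⟶ C'} {w : f ≫ p = 0} {w' : f' ≫ p' = 0}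
    (hS : (ShortComplex.mk f p w).ShortExact) (hT : (ShortComplex.mk f' p' w').ShortExact)
    (hN : P N) (hC : P C) (hN' : P N') (hC' : P C') : c N + c C = c N' + c C' := by
  have qN := hP.le hN
  have qC := hP.le hC
  have qN' := hP.le hN'
  have qC' := hP.le hC'
  have pK' : P (kernel (f' ≫ p)) := hP.sub (kernel.ι _) (hQ.kernel _ qN' qC) hN'
  have pK : P (kernel (f ≫ p')) := hP.sub (kernel.ι _) (hQ.kernel _ qN qC') hN
  have pI' : P (Abelian.image (f' ≫ p)) := hP.sub (Abelian.image.ι _) (hQ.image _ qN' qC) hC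
  have pI : P (Abelian.image (f ≫ p')) := hP.sub (Abelian.image.ι _) (hQ.image _ qN qC') hC'
  have pR' : P (cokernel (f' ≫ p)) := hP.quot (cokernel.π _) (hQ.cokernel _ qN' qC) hC
  have pR : P (cokernel (f ≫ p')) := hP.quot (cokernel.π _) (hQ.cokernel _ qN qC') hC'
  have e1 : c N' = c (kernel (f' ≫ p)) + c (Abelian.image (f' ≫ p)) :=
    hc _ (shortExact_of_kernel_cokernel (f' ≫ p)) pK' hN' pI'
  have e2 : c N = c (kernel (f ≫ p')) + c (Abelian.image (f ≫ p')) :=
    hc _ (shortExact_of_kernel_cokernel (f ≫ p')) pK hN pI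
  have e3 : c C = c (Abelian.image (f' ≫ p)) + c (cokernel (f' ≫ p)) :=
    hc _ (shortExact_image _ (f' ≫ p)) pI' hC pR'
  have e4 : c C' = c (Abelian.image (f ≫ p')) + c (cokernel (f ≫ p')) :=
    hc _ (shortExact_image _ (f ≫ p')) pI hC' pR
  obtain ⟨a⟩ := nonempty_kernel_iso hS hT
  obtain ⟨b⟩ := nonempty_cokernel_iso hS hT
  rw [e1, e2, e3, e4, hc.map_iso hQ hP a pK', hc.map_iso hQ hP b pR']
  abel

/-- The extension to `Ext2`. -/
theorem exists_extend (hQ : IsAbClass Q) (hP : IsSub Q P) (hc : IsAdd P c) :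
    ∃ c' : A → G, IsAdd (Ext2 Q P) c' ∧ ∀ M, P M → c' M = c M := by
  classical
  let c' : A → G := fun M => if h : Ext2 Q P M then c h.2.choose + c h.2.choose_spec.choose else 0
  have key : ∀ {N C M : A} {f : N ⟶ M} {p : M ⟶ C} {w : f ≫ p = 0}, (ShortComplex.mk f p w).ShortExact →
      Q M → P N → P C → c' M = c N + c C := fun {N C M f p w} hS hM hN hC => by
    have h : Ext2 Q P M := ⟨hM, N, C, f, p, w, hS, hN, hC⟩
    simp only [c', dif_pos h]
    obtain ⟨f₀, p₀, w₀, hS₀, hN₀, hC₀⟩ := h.2.choose_spec.choose_spec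
    exact value_unique hQ hP hc hS₀ hS hN₀ hC₀ hN hC
  refine ⟨c', fun S hS h₁ h₂ h₃ => ?_, fun M hM => ?_⟩
  · obtain ⟨hM, N, C, f, p, w, hW, hN, hC⟩ := h₂
    have hS' : (ShortComplex.mk S.f S.g S.zero).ShortExact := hS
    have qN := hP.le hN
    have qC := hP.le hC
    haveI : Mono f := hW.mono_f
    haveI : Mono S.f := hS.mono_f
    haveI : Epi S.g := hS.epi_g
    haveI : Epi p := hW.epi_g
    obtain ⟨a⟩ := nonempty_kernel_iso hW hS'
    obtain ⟨b⟩ := nonempty_cokernel_iso hW hS'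
    have pK : P (kernel (f ≫ S.g)) := hP.sub (kernel.ι _) (hQ.kernel _ qN h₃.1) hN
    have pI : P (Abelian.image (f ≫ S.g)) := hP.quot (Abelian.factorThruImage _) (hQ.image _ qN h₃.1) hN
    have pI' : P (Abelian.image (S.f ≫ p)) := hP.sub (Abelian.image.ι _) (hQ.image _ h₁.1 qC) hC
    have pR' : P (cokernel (S.f ≫ p)) := hP.quot (cokernel.π _) (hQ.cokernel _ h₁.1 qC) hC
    have pK' : P (kernel (S.f ≫ p)) := hP.iso hQ a.symm pK
    have pR : P (cokernel (f ≫ S.g)) := hP.iso hQ b pR'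
    rw [key hW hM hN hC, key (shortExact_of_kernel_cokernel (S.f ≫ p)) h₁.1 pK' pI',
      key (shortExact_image _ (f ≫ S.g)) h₃.1 pI pR, hc.map_iso hQ hP a pK', ← hc.map_iso hQ hP b pR',
      hc _ (shortExact_of_kernel_cokernel (f ≫ S.g)) pK hN pI,
      hc _ (shortExact_image _ (S.f ≫ p)) pI' hC pR']
    dsimp only
    abel
  · obtain ⟨-, N, C, f, p, w, hS, hN, hC⟩ := le_ext2 hP hM
    rw [key hS (hP.le hM) hN hC]
    exact (hc _ hS hN hM hC).symm

/-- The extension is unique. -/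
theorem extend_unique {c₁ c₂ : A → G} (hP : IsSub Q P) (h₁ : IsAdd (Ext2 Q P) c₁) (h₂ : IsAdd (Ext2 Q P) c₂)
    (h : ∀ M, P M → c₁ M = c₂ M) {M : A} (hM : Ext2 Q P M) : c₁ M = c₂ M := by
  have hM' := hM
  obtain ⟨-, N, C, f, p, w, hS, hN, hC⟩ := hM'
  rw [show c₁ M = _ from h₁ _ hS (le_ext2 hP hN) hM (le_ext2 hP hC),
    show c₂ M = _ from h₂ _ hS (le_ext2 hP hN) hM (le_ext2 hP hC), h N hN, h C hC]

end Value

/-! ### Iteration -/

/-- Objects with filtrations of length `2 ^ k`. -/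
def iter (Q P : A → Prop) : ℕ → A → Prop
  | 0 => P
  | k + 1 => Ext2 Q (iter Q P k)

theorem isSub_iter (hQ : IsAbClass Q) (hP : IsSub Q P) : ∀ k, IsSub Q (iter Q P k)
  | 0 => hP
  | k + 1 => isSub_ext2 hQ (isSub_iter hQ hP k)

theorem iter_mono (hQ : IsAbClass Q) (hP : IsSub Q P) {k l : ℕ} (h : k ≤ l) {M : A} (hM : iter Q P k M) :
    iter Q P l M := by
  induction h with
  | refl => exact hM
  | step h ih => exact le_ext2 (isSub_iter hQ hP _) ih

/-- An additive function on `P` extends to all filtered objects. -/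
theorem exists_extend_iter {G : Type w} [AddCommGroup G] (hQ : IsAbClass Q) (hP : IsSub Q P)
    (hfill : ∀ M, Q M → ∃ k, iter Q P k M) {c : A → G} (hc : IsAdd P c) :
    ∃ c' : A → G, IsAdd Q c' ∧ ∀ M, P M → c' M = c M := by
  classical
  have hex : ∀ k, ∃ ck : A → G, IsAdd (iter Q P k) ck ∧ ∀ M, P M → ck M = c M := fun k => by
    induction k with
    | zero => exact ⟨c, hc, fun _ _ => rfl⟩
    | succ k ih =>
      obtain ⟨ck, h1, h2⟩ := ih
      obtain ⟨c', h3, h4⟩ := exists_extend hQ (isSub_iter hQ hP k) h1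
      exact ⟨c', h3, fun M hM => (h4 M (iter_mono hQ hP (Nat.zero_le k) hM)).trans (h2 M hM)⟩
  choose ck hck hckP using hex
  have huniq : ∀ k, ∀ c₁ c₂ : A → G, IsAdd (iter Q P k) c₁ → IsAdd (iter Q P k) c₂ →
      (∀ M, P M → c₁ M = c₂ M) → ∀ M, iter Q P k M → c₁ M = c₂ M := fun k => by
    induction k with
    | zero => exact fun _ _ _ _ h M hM => h M hM
    | succ k ih =>
      intro c₁ c₂ h₁ h₂ h M hM
      have mono : ∀ {c₀ : A → G}, IsAdd (iter Q P (k + 1)) c₀ → IsAdd (iter Q P k) c₀ := fun h0 S hS a b d =>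
        h0 S hS (le_ext2 (isSub_iter hQ hP k) a) (le_ext2 (isSub_iter hQ hP k) b) (le_ext2 (isSub_iter hQ hP k) d)
      exact extend_unique (isSub_iter hQ hP k) h₁ h₂ (ih c₁ c₂ (mono h₁) (mono h₂) h) hM
  have hcompat : ∀ {k l : ℕ}, k ≤ l → ∀ M, iter Q P k M → ck k M = ck l M := fun {k l} hkl M hM =>
    huniq k _ _ (hck k) (fun S hS a b d => hck l S hS (iter_mono hQ hP hkl a) (iter_mono hQ hP hkl b)
      (iter_mono hQ hP hkl d)) (fun M hM => (hckP k M hM).trans (hckP l M hM).symm) M hM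
  let idx : A → ℕ := fun M => if h : Q M then Nat.find (hfill M h) else 0
  have hidx : ∀ {M}, Q M → iter Q P (idx M) M := fun {M} h => by
    simp only [idx, dif_pos h]
    exact Nat.find_spec (hfill M h)
  refine ⟨fun M => ck (idx M) M, fun S hS h₁ h₂ h₃ => ?_, fun M hM => hckP _ M hM⟩
  let K := max (idx S.X₁) (max (idx S.X₂) (idx S.X₃))
  have l₁ : idx S.X₁ ≤ K := le_max_left _ _
  have l₂ : idx S.X₂ ≤ K := (le_max_left _ _).trans (le_max_right _ _)
  have l₃ : idx S.X₃ ≤ K := (le_max_right _ _).trans (le_max_right _ _)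
  show ck _ S.X₂ = ck _ S.X₁ + ck _ S.X₃
  rw [hcompat l₁ _ (hidx h₁), hcompat l₂ _ (hidx h₂), hcompat l₃ _ (hidx h₃)]
  exact hck K S hS (iter_mono hQ hP l₁ (hidx h₁)) (iter_mono hQ hP l₂ (hidx h₂)) (iter_mono hQ hP l₃ (hidx h₃))

end Groth.Agent.H16Derived.GTheory
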