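import Groth.Agent.H16Derived.GTheory.FlatLoc
import Groth.Agent.H10Coh.TildeExact
import Groth.Agent.H29Fitt.PullbackQCoh

/-!
# Flat preimmersions into Noetherian schemes have Noetherian sources
-/

set_option autoImplicit false
set_option linter.style.haveILetI false
set_option linter.unusedSectionVars false

universe u

open CategoryTheory CategoryTheory.Limits AlgebraicGeometry TopologicalSpace ZeroObject

namespace Groth.Agent.H16Derived.GTheory

variable {X : Scheme.{u}} [IsNoetherian X]

/-- Quasi-coherent submodules of the structure sheaf come from coherent ideals. -/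
theorem isCoh_of_mono_structure {U : Scheme.{u}} (g : U ⟶ X) [IsPreimmersion g] [Flat g] [QuasiCompact g]
    [QuasiSeparated g] {G : U.Modules} (ι : G ⟶ Coh.structureModule U) [Mono ι] (hG : Coh.IsQCoh G) :
    Coh.IsCoh G := by
  haveI : G.IsQuasicoherent := hG
  haveI : (Coh.structureModule U).IsQuasicoherent := H10Coh.isQuasicoherent_unit
  haveI := preservesFiniteLimits_pullback g
  haveI := (Scheme.Modules.pullbackPushforwardAdjunction g).isLeftAdjoint
  haveI : (Scheme.Modules.pullback g).Additive := Functor.additive_of_preserves_binary_products _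
  haveI : (cokernel ι).IsQuasicoherent := H10Coh.isQuasicoherent_cokernel ι
  haveI : ((Scheme.Modules.pushforward g).obj (cokernel ι)).IsQuasicoherent :=
    H10Coh.isQuasicoherent_pushforward g _
  haveI : (Coh.structureModule X).IsQuasicoherent := H10Coh.isQuasicoherent_unit
  let a := Scheme.Modules.pullbackPushforwardAdjunction g
  haveI : IsIso (a.counit.app (cokernel ι)) := isIso_counit_flat g _
  let s := PicLoc.pullbackStructureIso g
  let t := a.homEquiv (Coh.structureModule X) (cokernel ι) (s.hom ≫ cokernel.π ι)
  have ht : (Scheme.Modules.pullback g).map t ≫ a.counit.app _ = s.hom ≫ cokernel.π ι :=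
    (Adjunction.homEquiv_counit a _ _ _).symm.trans ((a.homEquiv _ _).symm_apply_apply _)
  let e : (Scheme.Modules.pullback g).obj (kernel t) ≅ G :=
    PreservesKernel.iso (Scheme.Modules.pullback g) t ≪≫
      kernel.mapIso _ _ s (asIso (a.counit.app (cokernel ι))) ht ≪≫
      (kernelIsKernel (cokernel.π ι)).conePointUniqueUpToIso
        (Abelian.monoIsKernelOfCokernel (CokernelCofork.ofπ (cokernel.π ι) (cokernel.condition ι))
          (cokernelIsCokernel ι))
  have hI : Coh.IsCoh (kernel t) :=
    H10Coh.isCoh_of_mono (kernel.ι t) (H10Coh.isQuasicoherent_kernel t) (H10Coh.isCoh_structureModule' X)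
  exact H10Coh.isCoh_of_iso e (isCoh_pull g hI)

/-- The ring of an affine scheme flat and preimmersed in a Noetherian scheme is Noetherian. -/
theorem isNoetherianRing_of_flat_preimmersion (C : CommRingCat.{u}) (g : Spec C ⟶ X) [IsPreimmersion g] [Flat g]
    [QuasiCompact g] [QuasiSeparated g] : IsNoetherianRing C := by
  rw [isNoetherianRing_iff_ideal_fg]
  intro J
  let m : ModuleCat.of C J ⟶ ModuleCat.of C C := ModuleCat.ofHom (Submodule.subtype J)
  haveI : Mono m := (ModuleCat.mono_iff_injective m).2 fun x y h => Subtype.ext h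
  haveI := H10Coh.mono_tilde_map m
  let ι : tilde (ModuleCat.of C J) ⟶ Coh.structureModule (Spec C) :=
    tilde.map m ≫ (AlgebraicGeometry.tildeSelf (R := C)).hom
  haveI : Mono ι := mono_comp (tilde.map m) (AlgebraicGeometry.tildeSelf (R := C)).hom
  have hq : Coh.IsQCoh (tilde (ModuleCat.of C J)) :=
    inferInstanceAs (tilde (ModuleCat.of C J)).IsQuasicoherent
  have hG := isCoh_of_mono_structure g ι hq
  haveI : (tilde (ModuleCat.of C J)).IsQuasicoherent := hG.1
  haveI := H10Coh.finite_sections (tilde (ModuleCat.of C J)) hG.2 (isAffineOpen_top (Spec C))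
  have h1 := H10Coh.finite_ΓSpec (tilde (ModuleCat.of C J))
  have h2 : Module.Finite C J :=
    @Module.Finite.equiv _ _ _ _ _ _ _ _ h1 ((tilde.toTildeΓNatIso (R := C)).app (ModuleCat.of C J)).symm.toLinearEquiv
  exact Module.Finite.iff_fg.1 h2

/-- The source of a flat preimmersion into a Noetherian scheme is Noetherian. -/
theorem isNoetherian_of_flat_preimmersion {U : Scheme.{u}} (g : U ⟶ X) [IsPreimmersion g] [Flat g] :
    IsNoetherian U := by
  haveI : NoetherianSpace ↥U := g.isEmbedding.isInducing.noetherianSpace
  haveI : IsLocallyNoetherian U := by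
    refine ⟨fun W => ?_⟩
    let j : Spec Γ(U, W.1) ⟶ U := W.2.fromSpec
    haveI : NoetherianSpace ↥(Spec Γ(U, W.1)) := (j ≫ g).isEmbedding.isInducing.noetherianSpace
    haveI : QuasiCompact (j ≫ g) := ⟨fun _ _ _ => NoetherianSpace.isCompact _⟩
    exact isNoetherianRing_of_flat_preimmersion Γ(U, W.1) (j ≫ g)
  exact {}

end Groth.Agent.H16Derived.GTheory
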