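import Groth.Agent.H16Derived.GTheory.PID
import Groth.Agent.H16Derived.GTheory.AffineLine
import Groth.Agent.H16Derived.GTheory.Fibres
import Groth.Agent.H06Noether.FibreSurj
import Groth.Agent.H22Alg.KPush
import Groth.Agent.H02CA.KcohNilp
import Groth.Agent.H06Equidim.AffineSpace

/-!
# Pullback to the affine line is surjective on `K₀` of coherent modules
-/

set_option autoImplicit false
set_option linter.style.haveILetI false

universe u

open CategoryTheory CategoryTheory.Limits AlgebraicGeometry

namespace Groth.Agent.H16Derived.GTheory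

/-- The coherent classes of the affine line over a field are multiples of `[O]`. -/
theorem zmultiples_eq_top_fiber (X : Scheme.{u}) [IsNoetherian X] [IsNoetherian (A1 X)] (s : X) :
    AddSubgroup.zmultiples (KZero.clSub (fun M : ((prL X).fiber s).Modules => Coh.IsCoh M)
      (Coh.structureModule ((prL X).fiber s))) = ⊤ := by
  obtain ⟨e⟩ := H06Noether.exists_fiber_affineSpace_iso I1.{u} X s
  let P := CommRingCat.of (MvPolynomial I1.{u} (X.residueField s))
  haveI : IsPrincipalIdealRing (MvPolynomial I1.{u} (X.residueField s)) :=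
    IsPrincipalIdealRing.of_surjective
      (MvPolynomial.uniqueAlgEquiv (X.residueField s) I1.{u}).symm.toRingEquiv.toRingHom
      (MvPolynomial.uniqueAlgEquiv (X.residueField s) I1.{u}).symm.surjective
  haveI : IsPrincipalIdealRing P := ‹_›
  haveI : IsDomain P := inferInstanceAs (IsDomain (MvPolynomial I1.{u} (X.residueField s)))
  haveI : IsNoetherianRing P := inferInstance
  haveI : IsNoetherian (Spec P) := inferInstance
  haveI : IsLocallyNoetherian ((prL X).fiber s) := LocallyOfFiniteType.isLocallyNoetherian e.hom
  haveI : CompactSpace ((prL X).fiber s) := QuasiCompact.compactSpace_of_compactSpace e.hom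
  haveI : IsNoetherian ((prL X).fiber s) := {}
  haveI := KFlat.Stalk.preservesFiniteLimits_pullback_of_flat e.hom
  haveI : PreservesFiniteColimits (Scheme.Modules.pullback e.hom) :=
    @PreservesColimitsOfSize.preservesFiniteColimits.{0, 0} _ _ _ _ _
      (Scheme.Modules.pullbackPushforwardAdjunction e.hom).leftAdjoint_preservesColimits
  haveI : (Scheme.Modules.pullback e.hom).IsLeftAdjoint :=
    (Scheme.Modules.pullbackPushforwardAdjunction e.hom).isLeftAdjoint
  haveI : (Scheme.Modules.pullback e.hom).Additive := Functor.additive_of_preserves_binary_products _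
  let PF : ObjectProperty ((prL X).fiber s).Modules := fun M => Coh.IsCoh M
  let PS : ObjectProperty (Spec P).Modules := fun M => Coh.IsCoh M
  let Φ := SGA6.mapSub (Scheme.Modules.pullback e.hom) PS PF (fun M hM => isCoh_pull e.hom hM)
  refine H27KZero.closure_eq_top (P := PF) _ fun M hM => ?_
  have hM' := isCoh_pull e.inv hM
  obtain ⟨k, hk⟩ : KZero.clSub PS ((Scheme.Modules.pullback e.inv).obj M) ∈
      AddSubgroup.zmultiples (KZero.clSub PS (Coh.structureModule (Spec P))) :=
    (zmultiples_eq_top P).ge (AddSubgroup.mem_top _)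
  have hadd := clSub_isAdd (P := PF)
  have hQ := isAbClass_isCoh ((prL X).fiber s)
  refine ⟨k, ?_⟩
  have h := congrArg Φ hk
  simp only [map_zsmul] at h
  rw [mapSub_clSub (P := PS) (Q := PF) _ _ (H10Coh.isCoh_structureModule' _),
    mapSub_clSub (P := PS) (Q := PF) _ _ hM'] at h
  rw [hadd.map_iso hQ (isSub_self hQ) (PicLoc.pullbackStructureIso e.hom) (isCoh_pull _ (H10Coh.isCoh_structureModule' _)),
    ] at h
  exact h.trans (hadd.map_iso hQ (isSub_self hQ) ((Scheme.Modules.pullbackComp e.hom e.inv).app M ≪≫
      (Scheme.Modules.pullbackCongr e.hom_inv_id).app M ≪≫ (Scheme.Modules.pullbackId _).app M)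
      (isCoh_pull _ hM'))

/-- Pullback to the affine line is surjective. -/
theorem surjective_pullback_prL (X : Scheme.{u}) [IsNoetherian X]
    [(Scheme.Modules.pullback (prL X)).Additive] [PreservesFiniteLimits (Scheme.Modules.pullback (prL X))]
    [PreservesFiniteColimits (Scheme.Modules.pullback (prL X))]
    (hf : ∀ M : X.Modules, Coh.IsCoh M → Coh.IsCoh ((Scheme.Modules.pullback (prL X)).obj M)) :
    Function.Surjective (SGA6.mapSub (Scheme.Modules.pullback (prL X)) (fun M : X.Modules => Coh.IsCoh M)
      (fun M : (A1 X).Modules => Coh.IsCoh M) hf) := by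
  haveI := isNoetherian_A1 X
  haveI : Flat (prL X) := H06Equidim.flat_affineSpace I1.{u}
  have hQ := isAbClass_isCoh (A1 X)
  let Φ := SGA6.mapSub (Scheme.Modules.pullback (prL X)) (fun M : X.Modules => Coh.IsCoh M)
    (fun M : (A1 X).Modules => Coh.IsCoh M) hf
  have h : Φ.range = ⊤ := by
    refine eq_top_of_fibres (prL X) (fun _ : Fin 1 => Coh.structureModule (A1 X))
      (fun _ => H22Alg.KPush.finLocFree_structure _) Φ.range
      (fun _ N hN => ⟨KZero.clSub _ N, ?_⟩) (fun s => ?_)
    · rw [mapSub_clSub (P := fun M : X.Modules => Coh.IsCoh M) (Q := fun M : (A1 X).Modules => Coh.IsCoh M) _ _ hN]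
      exact (clSub_isAdd (P := fun M : (A1 X).Modules => Coh.IsCoh M)).map_iso hQ (isSub_self hQ)
        (H02CA.KcohNilp.unitL _).symm (hf N hN)
    · rw [eq_top_iff, ← zmultiples_eq_top_fiber X s, AddSubgroup.zmultiples_le]
      refine AddSubgroup.subset_closure ⟨0, ?_⟩
      haveI : LocallyOfFiniteType ((prL X).fiberToSpecResidueField s) :=
        MorphismProperty.pullback_snd _ _ (inferInstance : LocallyOfFiniteType (prL X))
      haveI : IsLocallyNoetherian ((prL X).fiber s) :=
        LocallyOfFiniteType.isLocallyNoetherian ((prL X).fiberToSpecResidueField s)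
      haveI : CompactSpace ((prL X).fiber s) :=
        QuasiCompact.compactSpace_of_compactSpace ((prL X).fiberToSpecResidueField s)
      haveI : IsNoetherian ((prL X).fiber s) := {}
      exact (clSub_isAdd (P := fun M : ((prL X).fiber s).Modules => Coh.IsCoh M)).map_iso (isAbClass_isCoh _)
        (isSub_self (isAbClass_isCoh _)) (PicLoc.pullbackStructureIso ((prL X).fiberι s))
        (isCoh_pull _ (H10Coh.isCoh_structureModule' _))
  exact AddMonoidHom.range_eq_top.1 h

end Groth.Agent.H16Derived.GTheory
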