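import Groth.Agent.H16Derived.GTheory.Gysin
import Groth.Agent.H16Derived.GTheory.LineSurj

/-!
# Homotopy invariance of `K₀` of coherent modules
-/

set_option autoImplicit false
set_option linter.style.haveILetI false
set_option backward.isDefEq.respectTransparency false

universe u

open CategoryTheory CategoryTheory.Limits AlgebraicGeometry

noncomputable section

namespace Groth.Agent.H16Derived.GTheory

variable {X Y Z : Scheme.{u}}

theorem pull_props (f : X ⟶ Y) [Flat f] : (Scheme.Modules.pullback f).Additive ∧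
    PreservesFiniteLimits (Scheme.Modules.pullback f) ∧ PreservesFiniteColimits (Scheme.Modules.pullback f) :=
  haveI : (Scheme.Modules.pullback f).IsLeftAdjoint :=
    (Scheme.Modules.pullbackPushforwardAdjunction f).isLeftAdjoint
  ⟨Functor.additive_of_preserves_binary_products _, KFlat.Stalk.preservesFiniteLimits_pullback_of_flat f,
    @PreservesColimitsOfSize.preservesFiniteColimits.{0, 0} _ _ _ _ _
      (Scheme.Modules.pullbackPushforwardAdjunction f).leftAdjoint_preservesColimits⟩

/-- Flat pullback on `K₀` of coherent modules. -/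
def pullK (f : X ⟶ Y) [Flat f] : SGA6.Kcoh Y →+ SGA6.Kcoh X :=
  haveI := (pull_props f).1
  haveI := (pull_props f).2.1
  haveI := (pull_props f).2.2
  SGA6.mapSub (Scheme.Modules.pullback f) (fun M : Y.Modules => Coh.IsCoh M) (fun M : X.Modules => Coh.IsCoh M)
    fun _ hM => isCoh_pull f hM

theorem pullK_clSub (f : X ⟶ Y) [Flat f] {M : Y.Modules} (hM : Coh.IsCoh M) :
    pullK f (KZero.clSub (fun M : Y.Modules => Coh.IsCoh M) M) =
      KZero.clSub (fun M : X.Modules => Coh.IsCoh M) ((Scheme.Modules.pullback f).obj M) :=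
  haveI := (pull_props f).1
  haveI := (pull_props f).2.1
  haveI := (pull_props f).2.2
  mapSub_clSub (P := fun M : Y.Modules => Coh.IsCoh M) (Q := fun M : X.Modules => Coh.IsCoh M) _ _ hM

theorem pullK_comp [IsNoetherian X] (f : X ⟶ Y) [Flat f] (g : Y ⟶ Z) [Flat g] (h : X ⟶ Z) [Flat h]
    (w : f ≫ g = h) : pullK h = (pullK f).comp (pullK g) :=
  k0sub_ext fun M hM => by
    rw [AddMonoidHom.comp_apply, pullK_clSub h hM, pullK_clSub g hM, pullK_clSub f (isCoh_pull g hM)]
    exact (clSub_isAdd (P := fun M : X.Modules => Coh.IsCoh M)).map_iso (isAbClass_isCoh X)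
      (isSub_self (isAbClass_isCoh X))
      (((Scheme.Modules.pullbackComp f g).app M ≪≫ (Scheme.Modules.pullbackCongr w).app M).symm)
      (isCoh_pull h hM)

theorem pullK_id [IsNoetherian X] : pullK (𝟙 X) = AddMonoidHom.id _ :=
  k0sub_ext fun M hM => by
    rw [pullK_clSub _ hM]
    exact (clSub_isAdd (P := fun M : X.Modules => Coh.IsCoh M)).map_iso (isAbClass_isCoh X)
      (isSub_self (isAbClass_isCoh X)) ((Scheme.Modules.pullbackId X).app M) (isCoh_pull _ hM)

theorem bijective_pullK_iso [IsNoetherian X] [IsNoetherian Y] (e : X ⟶ Y) [IsIso e] :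
    Function.Bijective (pullK e) :=
  ⟨Function.LeftInverse.injective (g := pullK (inv e)) fun a => by
      rw [← AddMonoidHom.comp_apply, ← pullK_comp (inv e) e (𝟙 Y) (IsIso.inv_hom_id e), pullK_id]; rfl,
    Function.RightInverse.surjective (g := pullK (inv e)) fun a => by
      rw [← AddMonoidHom.comp_apply, ← pullK_comp e (inv e) (𝟙 X) (IsIso.hom_inv_id e), pullK_id]; rfl⟩

variable (X) [IsNoetherian X]

/-- Homotopy invariance for the affine line. -/
theorem bijective_pullK_prL [Flat (prL X)] : Function.Bijective (pullK (prL X)) := by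
  haveI := isNoetherian_A1 X
  haveI := (pull_props (prL X)).1
  haveI := (pull_props (prL X)).2.1
  haveI := (pull_props (prL X)).2.2
  refine ⟨?_, surjective_pullback_prL X _⟩
  obtain ⟨g, hg⟩ := exists_lift_isAdd (P := fun M : (A1 X).Modules => Coh.IsCoh M) (gys X) (isAdd_gys X)
  refine Function.LeftInverse.injective (g := g) fun a => ?_
  have h : g.comp (pullK (prL X)) = AddMonoidHom.id _ := k0sub_ext fun N hN => by
    rw [AddMonoidHom.comp_apply, pullK_clSub _ hN, hg _ (isCoh_pull _ hN)]
    let M := (Scheme.Modules.pullback (prL X)).obj N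
    haveI := mono_theta_pullback X N
    have hk : gam X (kernel ((thetaT X).app M)) = 0 :=
      (isAdd_gam X).map_zero (isSub_onClosed (zeroL X)) (isZero_kernel_of_mono _)
    show gam X (cokernel ((thetaT X).app M)) - gam X (kernel ((thetaT X).app M)) = _
    rw [hk, sub_zero, AddMonoidHom.id_apply]
    obtain ⟨e⟩ := nonempty_cokernel_theta X M
    have hc : Coh.IsCoh (cokernel ((thetaT X).app M)) :=
      (onClosed_cokernel_theta X (isCoh_pull (prL X) hN)).1
    exact (clSub_isAdd (P := fun M : X.Modules => Coh.IsCoh M)).map_iso (isAbClass_isCoh X)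
      (isSub_self (isAbClass_isCoh X))
      ((Scheme.Modules.pullback (zeroL X)).mapIso e ≪≫ (pullSO X).app M ≪≫
        (Scheme.Modules.pullbackComp (zeroL X) (prL X)).app N ≪≫
        (Scheme.Modules.pullbackCongr (zeroL_prL X)).app N ≪≫ (Scheme.Modules.pullbackId X).app N)
      (isCoh_pull _ hc)
  exact DFunLike.congr_fun h a

/-- Adding a coordinate. -/
def succIso (S : Scheme.{u}) (r : ℕ) :
    A1 𝔸(ULift.{u} (Fin r); S) ≅ 𝔸(ULift.{u} (Fin (r + 1)); S) where
  hom := AffineSpace.homOfVector (prL _ ≫ (𝔸(ULift.{u} (Fin r); S) ↘ S))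
    fun i => Fin.lastCases (motive := fun _ => Γ(A1 𝔸(ULift.{u} (Fin r); S), ⊤)) (tL _)
      (fun j => (prL _).appTop (AffineSpace.coord S (ULift.up j))) i.down
  inv := AffineSpace.homOfVector
    (AffineSpace.homOfVector (𝔸(ULift.{u} (Fin (r + 1)); S) ↘ S)
      fun j => AffineSpace.coord S (ULift.up j.down.castSucc))
    fun _ => AffineSpace.coord S (ULift.up (Fin.last r))
  hom_inv_id := by
    refine AffineSpace.hom_ext ?_ fun i => ?_
    · refine AffineSpace.hom_ext ?_ fun j => ?_
      · simp only [Category.assoc, AffineSpace.homOfVector_over, AffineSpace.homOfVector_over_assoc, Category.id_comp]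
      · simp only [Category.assoc, AffineSpace.homOfVector_over, Category.id_comp, Scheme.Hom.comp_appTop,
          CommRingCat.comp_apply, AffineSpace.homOfVector_appTop_coord, Fin.lastCases_castSucc]
    · simp only [Scheme.Hom.comp_appTop, CommRingCat.comp_apply, AffineSpace.homOfVector_appTop_coord,
        Fin.lastCases_last, Category.id_comp]
      obtain ⟨i⟩ := i
      obtain rfl : i = 0 := Subsingleton.elim _ _
      rfl
  inv_hom_id := by
    refine AffineSpace.hom_ext ?_ fun i => ?_
    · simp only [Category.assoc, AffineSpace.homOfVector_over, AffineSpace.homOfVector_over_assoc, Category.id_comp]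
    · obtain ⟨i⟩ := i
      simp only [Scheme.Hom.comp_appTop, CommRingCat.comp_apply, AffineSpace.homOfVector_appTop_coord,
        Category.id_comp]
      induction i using Fin.lastCases with
      | last => simp
      | cast j =>
        simp only [Fin.lastCases_castSucc]
        rw [← CommRingCat.comp_apply, ← Scheme.Hom.comp_appTop, AffineSpace.homOfVector_over,
          AffineSpace.homOfVector_appTop_coord]
        simp

theorem succIso_over (S : Scheme.{u}) (r : ℕ) :
    (succIso S r).hom ≫ (𝔸(ULift.{u} (Fin (r + 1)); S) ↘ S) = prL _ ≫ (𝔸(ULift.{u} (Fin r); S) ↘ S) :=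
  AffineSpace.homOfVector_over _ _

/-- Homotopy invariance for affine space. -/
theorem bijective_pullK_affineSpace (S : Scheme.{u}) [IsNoetherian S] : ∀ (r : ℕ)
    [Flat (𝔸(ULift.{u} (Fin r); S) ↘ S)], Function.Bijective (pullK (𝔸(ULift.{u} (Fin r); S) ↘ S))
  | 0, _ => by
    haveI : IsNoetherian 𝔸(ULift.{u} (Fin 0); S) := by
      haveI := QuasiCompact.compactSpace_of_compactSpace (𝔸(ULift.{u} (Fin 0); S) ↘ S)
      haveI := LocallyOfFiniteType.isLocallyNoetherian (𝔸(ULift.{u} (Fin 0); S) ↘ S)
      exact {}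
    exact bijective_pullK_iso _
  | r + 1, _ => by
    haveI : Flat (𝔸(ULift.{u} (Fin r); S) ↘ S) := H06Equidim.flat_affineSpace _
    haveI : IsNoetherian 𝔸(ULift.{u} (Fin r); S) := by
      haveI := QuasiCompact.compactSpace_of_compactSpace (𝔸(ULift.{u} (Fin r); S) ↘ S)
      haveI := LocallyOfFiniteType.isLocallyNoetherian (𝔸(ULift.{u} (Fin r); S) ↘ S)
      exact {}
    haveI : IsNoetherian 𝔸(ULift.{u} (Fin (r + 1)); S) := by
      haveI := QuasiCompact.compactSpace_of_compactSpace (𝔸(ULift.{u} (Fin (r + 1)); S) ↘ S)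
      haveI := LocallyOfFiniteType.isLocallyNoetherian (𝔸(ULift.{u} (Fin (r + 1)); S) ↘ S)
      exact {}
    haveI := isNoetherian_A1 𝔸(ULift.{u} (Fin r); S)
    haveI : Flat (prL 𝔸(ULift.{u} (Fin r); S)) := H06Equidim.flat_affineSpace I1.{u}
    let c := prL 𝔸(ULift.{u} (Fin r); S) ≫ (𝔸(ULift.{u} (Fin r); S) ↘ S)
    have h1 : pullK c = (pullK (prL 𝔸(ULift.{u} (Fin r); S))).comp (pullK (𝔸(ULift.{u} (Fin r); S) ↘ S)) :=
      pullK_comp _ _ c rfl
    have h2 : pullK c = (pullK (succIso S r).hom).comp (pullK (𝔸(ULift.{u} (Fin (r + 1)); S) ↘ S)) :=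
      pullK_comp _ _ c (succIso_over S r)
    have hc : Function.Bijective (pullK c) := by
      rw [h1]
      exact (bijective_pullK_prL _).comp (bijective_pullK_affineSpace S r)
    rw [h2] at hc
    exact (Function.Bijective.of_comp_iff' (bijective_pullK_iso (succIso S r).hom) _).1 hc

end Groth.Agent.H16Derived.GTheory
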