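import Groth.Agent.H16Derived.GTheory.Closed
import Groth.Agent.LeadQSub.Extend
import Groth.Agent.H10Coh.QcqsPush
import Groth.Agent.H10Coh.OpenSpec

/-!
# The localization sequence for `K₀` of coherent modules
-/

set_option autoImplicit false
set_option linter.style.haveILetI false
set_option linter.unusedSectionVars false

universe u

open CategoryTheory CategoryTheory.Limits AlgebraicGeometry TopologicalSpace ZeroObject

namespace Groth.Agent.H16Derived.GTheory

open H27KZero.SerreSeq (shortExact_of_kernel_cokernel shortExact_image)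

variable {X U : Scheme.{u}} [IsNoetherian X] (j : U ⟶ X) [IsOpenImmersion j]

local notation "cK" => KZero.clSub (fun M : X.Modules => Coh.IsCoh M)

theorem isNoetherian_of_open {X U : Scheme.{u}} [IsNoetherian X] (j : U ⟶ X) [IsOpenImmersion j] :
    IsNoetherian U := by
  haveI : IsLocallyNoetherian U := LocallyOfFiniteType.isLocallyNoetherian j
  haveI : NoetherianSpace ↥U := j.isOpenEmbedding.isInducing.noetherianSpace
  exact {}

theorem quasiCompact_of_open : QuasiCompact j :=
  haveI := isNoetherian_of_open j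
  ⟨fun _ _ _ => NoetherianSpace.isCompact _⟩

theorem isIso_counit_open (G : U.Modules) : IsIso ((Scheme.Modules.restrictAdjunction j).counit.app G) :=
  inferInstance

/-- A map to a direct image whose restriction is the given isomorphism. -/
theorem exists_toPush {K : X.Modules} {G : U.Modules} (e : (Scheme.Modules.restrictFunctor j).obj K ≅ G) :
    ∃ a : K ⟶ (Scheme.Modules.pushforward j).obj G, IsIso ((Scheme.Modules.restrictFunctor j).map a) := by
  refine ⟨(Scheme.Modules.restrictAdjunction j).homEquiv K G e.hom, ?_⟩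
  haveI := isIso_counit_open j G
  have h : (Scheme.Modules.restrictFunctor j).map ((Scheme.Modules.restrictAdjunction j).homEquiv K G e.hom) ≫
      (Scheme.Modules.restrictAdjunction j).counit.app G = e.hom :=
    (Adjunction.homEquiv_counit _ K G _).symm.trans (((Scheme.Modules.restrictAdjunction j).homEquiv K G).symm_apply_apply _)
  haveI : IsIso ((Scheme.Modules.restrictFunctor j).map ((Scheme.Modules.restrictAdjunction j).homEquiv K G e.hom) ≫
      (Scheme.Modules.restrictAdjunction j).counit.app G) := by rw [h]; infer_instance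
  exact IsIso.of_isIso_comp_right _ ((Scheme.Modules.restrictAdjunction j).counit.app G)

/-- Coherent modules on an open subscheme extend. -/
theorem exists_extension {G : U.Modules} (hG : Coh.IsCoh G) :
    ∃ K : X.Modules, Coh.IsCoh K ∧ Nonempty ((Scheme.Modules.restrictFunctor j).obj K ≅ G) := by
  haveI := quasiCompact_of_open j
  haveI : G.IsQuasicoherent := hG.1
  let W := j.opensRange
  let φ := j.isoOpensRange
  let F := (Scheme.Modules.pushforward j).obj G
  have hF : Coh.IsQCoh F := H10Coh.isQuasicoherent_pushforward j G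
  haveI : IsIso ((Scheme.Modules.restrictAdjunction j).counit.app G) := isIso_counit_open j G
  let c : (Scheme.Modules.restrictFunctor j).obj F ≅ G := asIso ((Scheme.Modules.restrictAdjunction j).counit.app G)
  have hι : φ.hom ≫ W.ι = j := j.isoOpensRange_hom_ι
  have hι' : φ.inv ≫ j = W.ι := (Iso.inv_comp_eq φ).2 hι.symm
  -- the restriction to the range
  haveI := isNoetherian_of_open j
  have hFW : Coh.IsCoh ((Scheme.Modules.restrictFunctor W.ι).obj F) :=
    H27KZero.isCoh_of_iso (X := (W : Scheme.{u}))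
      ((Scheme.Modules.restrictFunctor φ.inv).mapIso c.symm ≪≫
        ((Scheme.Modules.restrictFunctorComp φ.inv j).app F).symm ≪≫ (Scheme.Modules.restrictFunctorCongr hι').app F)
      (H10Coh.isCoh_restrict φ.inv G hG)
  have hX : ∀ x : X, ∃ V : X.Opens, x ∈ V ∧ NoetherianSpace (V : Set X) := fun x =>
    ⟨⊤, trivial, inferInstance⟩
  obtain ⟨K, k, e, -, hKq, hKft, -⟩ := LeadQSub.exists_extension_subsheaf_locallyNoetherian (F := F) hX W
    (G := (Scheme.Modules.restrictFunctor W.ι).obj F) (𝟙 _) hF hFW.1 hFW.2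
  refine ⟨K, ⟨hKq, hKft⟩, ⟨(Scheme.Modules.restrictFunctorCongr hι.symm).app K ≪≫
    (Scheme.Modules.restrictFunctorComp φ.hom W.ι).app K ≪≫ (Scheme.Modules.restrictFunctor φ.hom).mapIso e ≪≫
    ((Scheme.Modules.restrictFunctorComp φ.hom W.ι).app F).symm ≪≫
    (Scheme.Modules.restrictFunctorCongr hι).app F ≪≫ c⟩⟩

variable [PreservesFiniteLimits (Scheme.Modules.restrictFunctor j)]

theorem support_subset_of_isZero_restrict {M : X.Modules} (h : IsZero ((Scheme.Modules.restrictFunctor j).obj M)) :
    CohB1.support M ⊆ (Set.range j)ᶜ := by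
  rintro y hy ⟨x, rfl⟩
  refine hy (AddCommGrpCat.subsingleton_of_isZero (G := TopCat.Presheaf.stalk (C := Ab.{u}) M.presheaf (j.base x)) ?_)
  refine IsZero.of_iso ?_ ((Scheme.Modules.restrictStalkNatIso j x).app _).symm
  exact (Scheme.Modules.toPresheaf _ ⋙ TopCat.Presheaf.stalkFunctor Ab.{u} x).map_isZero h

variable {X' : Scheme.{u}} (i : X' ⟶ X) [IsClosedImmersion i]
  [(Scheme.Modules.pushforward i).Additive] [PreservesFiniteLimits (Scheme.Modules.pushforward i)]
  [PreservesFiniteColimits (Scheme.Modules.pushforward i)]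
  (hi : ∀ M : X'.Modules, Coh.IsCoh M → Coh.IsCoh ((Scheme.Modules.pushforward i).obj M))
  (hU : Set.range j = (Set.range i)ᶜ)

local notation "im" => AddMonoidHom.range (SGA6.mapSub (Scheme.Modules.pushforward i)
  (fun M : X'.Modules => Coh.IsCoh M) (fun M : X.Modules => Coh.IsCoh M) hi)

include hU in
theorem mem_im_of_isZero_restrict {M : X.Modules} (hM : Coh.IsCoh M)
    (h : IsZero ((Scheme.Modules.restrictFunctor j).obj M)) : cK M ∈ im := by
  refine clSub_mem_of_support i hi hM ((support_subset_of_isZero_restrict j h).trans ?_)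
  rw [hU, compl_compl]

include hU in
/-- A morphism which is an isomorphism on the open does not change the class modulo the closed part. -/
theorem mk_eq_of_isIso_restrict {K L : X.Modules} (f : K ⟶ L) (hK : Coh.IsCoh K) (hL : Coh.IsCoh L)
    [IsIso ((Scheme.Modules.restrictFunctor j).map f)] :
    (QuotientAddGroup.mk (cK K) : SGA6.Kcoh X ⧸ im) = QuotientAddGroup.mk (cK L) := by
  have hQ := isAbClass_isCoh X
  have hk : IsZero ((Scheme.Modules.restrictFunctor j).obj (kernel f)) :=
    (isZero_kernel_of_mono ((Scheme.Modules.restrictFunctor j).map f)).of_iso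
      (PreservesKernel.iso (Scheme.Modules.restrictFunctor j) f)
  have hc : IsZero ((Scheme.Modules.restrictFunctor j).obj (cokernel f)) :=
    (isZero_cokernel_of_epi ((Scheme.Modules.restrictFunctor j).map f)).of_iso
      (PreservesCokernel.iso (Scheme.Modules.restrictFunctor j) f)
  have e1 : cK K = cK (kernel f) + cK (Abelian.image f) :=
    clSub_isAdd _ (shortExact_of_kernel_cokernel f) (hQ.kernel f hK hL) hK (hQ.image f hK hL)
  have e2 : cK L = cK (Abelian.image f) + cK (cokernel f) :=
    clSub_isAdd _ (shortExact_image _ f) (hQ.image f hK hL) hL (hQ.cokernel f hK hL)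
  rw [QuotientAddGroup.eq_iff_sub_mem, e1, e2]
  have h := sub_mem (mem_im_of_isZero_restrict j i hi hU (hQ.kernel f hK hL) hk)
    (mem_im_of_isZero_restrict j i hi hU (hQ.cokernel f hK hL) hc)
  convert h using 1
  abel

/-- The image of a map from a coherent module to a quasi-coherent one is coherent. -/
theorem isCoh_image {K F : X.Modules} (f : K ⟶ F) (hK : Coh.IsCoh K) (hF : Coh.IsQCoh F) :
    Coh.IsCoh (Abelian.image f) := by
  haveI : K.IsQuasicoherent := hK.1
  haveI : F.IsQuasicoherent := hF
  refine H27KZero.isCoh_of_iso (Abelian.coimageIsoImage f) ?_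
  exact H10Coh.isCoh_cokernel (kernel.ι f) (H10Coh.isQuasicoherent_kernel f) hK

include hU in
/-- Two extensions of a coherent module have the same class modulo the closed part. -/
theorem mk_eq_of_iso {G : U.Modules} (hG : Coh.IsCoh G) {K K' : X.Modules} (hK : Coh.IsCoh K) (hK' : Coh.IsCoh K')
    (e : (Scheme.Modules.restrictFunctor j).obj K ≅ G) (e' : (Scheme.Modules.restrictFunctor j).obj K' ≅ G) :
    (QuotientAddGroup.mk (cK K) : SGA6.Kcoh X ⧸ im) = QuotientAddGroup.mk (cK K') := by
  haveI := quasiCompact_of_open j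
  haveI : G.IsQuasicoherent := hG.1
  have hF : Coh.IsQCoh ((Scheme.Modules.pushforward j).obj G) := H10Coh.isQuasicoherent_pushforward j G
  obtain ⟨a, ha⟩ := exists_toPush j e
  obtain ⟨a', ha'⟩ := exists_toPush j e'
  let R := Scheme.Modules.restrictFunctor j
  let d := biprod.desc a a'
  have hKK : Coh.IsCoh (K ⊞ K') :=
    (isSub_iter (isAbClass_isCoh X) (isSub_self (isAbClass_isCoh X)) 1).le (M := K ⊞ K')
      ⟨?_, K, K', biprod.inl, biprod.snd, biprod.inl_snd, H27KZero.SerreSeq.shortExact_biprod_inl K K', hK, hK'⟩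
  swap
  · exact H27KZero.isCoh_extension (H27KZero.SerreSeq.shortExact_biprod_inl K K') hK hK'
  have hS := isCoh_image d hKK hF
  let s := biprod.inl ≫ Abelian.factorThruImage d
  let s' := biprod.inr ≫ Abelian.factorThruImage d
  have hs : R.map s ≫ R.map (Abelian.image.ι d) = R.map a := by
    rw [← Functor.map_comp, Category.assoc, Abelian.image.fac, biprod.inl_desc]
  have hs' : R.map s' ≫ R.map (Abelian.image.ι d) = R.map a' := by
    rw [← Functor.map_comp, Category.assoc, Abelian.image.fac, biprod.inr_desc]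
  haveI : IsIso (R.map (Abelian.image.ι d)) := by
    haveI : Epi (R.map (Abelian.image.ι d)) := @epi_of_epi_fac _ _ _ _ _ _ _ _ (@IsIso.epi_of_iso _ _ _ _ _ ha) hs
    exact isIso_of_mono_of_epi _
  haveI : IsIso (R.map s ≫ R.map (Abelian.image.ι d)) := by rw [hs]; exact ha
  haveI : IsIso (R.map s' ≫ R.map (Abelian.image.ι d)) := by rw [hs']; exact ha'
  haveI : IsIso (R.map s) := IsIso.of_isIso_comp_right _ (R.map (Abelian.image.ι d))
  haveI : IsIso (R.map s') := IsIso.of_isIso_comp_right _ (R.map (Abelian.image.ι d))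
  rw [mk_eq_of_isIso_restrict j i hi hU s hK hS, mk_eq_of_isIso_restrict j i hi hU s' hK' hS]

variable (hj : ∀ M : X.Modules, Coh.IsCoh M → Coh.IsCoh ((Scheme.Modules.restrictFunctor j).obj M))

local notation "resK" => SGA6.mapSub (Scheme.Modules.restrictFunctor j)
  (fun M : X.Modules => Coh.IsCoh M) (fun M : U.Modules => Coh.IsCoh M) hj

/-- Restriction is surjective. -/
theorem surjective_restrict : Function.Surjective resK := fun y => by
  haveI := isNoetherian_of_open j
  refine (H27KZero.closure_eq_top (P := fun M : U.Modules => Coh.IsCoh M) (AddMonoidHom.range resK) fun G hG => ?_).ge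
    (AddSubgroup.mem_top y)
  obtain ⟨K, hK, ⟨e⟩⟩ := exists_extension j hG
  refine ⟨KZero.clSub (fun M : X.Modules => Coh.IsCoh M) K, ?_⟩
  rw [mapSub_clSub (P := fun M : X.Modules => Coh.IsCoh M) (Q := fun M : U.Modules => Coh.IsCoh M) _ hj hK]
  exact (clSub_isAdd (P := fun M : U.Modules => Coh.IsCoh M)).map_iso (isAbClass_isCoh U)
    (isSub_self (isAbClass_isCoh U)) e (hj K hK)

include hU in
/-- Exactness in the middle. -/
theorem ker_restrict : AddMonoidHom.ker resK = im := by
  classical
  haveI := isNoetherian_of_open j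
  haveI := isNoetherian_of_closed i
  haveI := quasiCompact_of_open j
  let R := Scheme.Modules.restrictFunctor j
  let PU : ObjectProperty U.Modules := fun M => Coh.IsCoh M
  refine le_antisymm ?_ ?_
  · -- an inverse modulo the closed part
    choose Kx hKx eKx using fun (G : U.Modules) (hG : Coh.IsCoh G) => exists_extension j hG
    let c : U.Modules → SGA6.Kcoh X ⧸ im := fun G =>
      if h : Coh.IsCoh G then QuotientAddGroup.mk (cK (Kx G h)) else 0
    have hc0 : ∀ {G : U.Modules} {K : X.Modules}, Coh.IsCoh G → Coh.IsCoh K → (R.obj K ≅ G) →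
        c G = QuotientAddGroup.mk (cK K) := fun {G K} hG hK e => by
      simp only [c, dif_pos hG]
      exact mk_eq_of_iso j i hi hU hG (hKx G hG) hK (eKx G hG).some e
    have hc : IsAdd (fun M : U.Modules => Coh.IsCoh M) c := fun S hS h₁ h₂ h₃ => by
      haveI : S.X₂.IsQuasicoherent := h₂.1
      haveI : S.X₃.IsQuasicoherent := h₃.1
      have hF3 : Coh.IsQCoh ((Scheme.Modules.pushforward j).obj S.X₃) := H10Coh.isQuasicoherent_pushforward j S.X₃
      obtain ⟨K, hK, ⟨e⟩⟩ := exists_extension j h₂
      haveI := hS.epi_g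
      haveI := isIso_counit_open j S.X₃
      let b := (Scheme.Modules.restrictAdjunction j).homEquiv K S.X₃ (e.hom ≫ S.g)
      have hb : R.map b ≫ (Scheme.Modules.restrictAdjunction j).counit.app S.X₃ = e.hom ≫ S.g :=
        (Adjunction.homEquiv_counit _ K S.X₃ _).symm.trans
          (((Scheme.Modules.restrictAdjunction j).homEquiv K S.X₃).symm_apply_apply _)
      let c₃ := asIso ((Scheme.Modules.restrictAdjunction j).counit.app S.X₃)
      have hI := isCoh_image b hK hF3
      haveI : Epi (R.map (Abelian.image.ι b) ≫ c₃.hom) := by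
        refine epi_of_epi_fac (f := R.map (Abelian.factorThruImage b)) (h := e.hom ≫ S.g) ?_
        rw [← Category.assoc, ← Functor.map_comp, Abelian.image.fac]
        exact hb
      haveI : Mono (R.map (Abelian.image.ι b) ≫ c₃.hom) := mono_comp _ _
      haveI : IsIso (R.map (Abelian.image.ι b) ≫ c₃.hom) := isIso_of_mono_of_epi _
      have hkc : Coh.IsCoh (kernel b) := H10Coh.isCoh_kernel b hK hF3
      let e₁ : R.obj (kernel b) ≅ S.X₁ :=
        PreservesKernel.iso R b ≪≫ kernel.mapIso (R.map b) S.g e c₃ hb ≪≫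
          (kernelIsKernel S.g).conePointUniqueUpToIso hS.fIsKernel
      rw [hc0 h₁ hkc e₁, hc0 h₂ hK e, hc0 h₃ hI (asIso (R.map (Abelian.image.ι b) ≫ c₃.hom)),
        ← QuotientAddGroup.mk_add]
      exact congrArg _ (clSub_isAdd _ (shortExact_of_kernel_cokernel b) hkc hK hI)
    obtain ⟨μ, hμ⟩ := exists_lift_isAdd (P := PU) c hc
    have h : μ.comp resK = QuotientAddGroup.mk' im := k0sub_ext fun M hM => by
      rw [AddMonoidHom.comp_apply, mapSub_clSub (P := fun M : X.Modules => Coh.IsCoh M) (Q := PU) _ hj hM,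
        hμ _ (hj M hM)]
      exact hc0 (hj M hM) hM (Iso.refl _)
    intro x hx
    rw [AddMonoidHom.mem_ker] at hx
    refine (QuotientAddGroup.eq_zero_iff x).1 ((DFunLike.congr_fun h x).symm.trans ?_)
    rw [AddMonoidHom.comp_apply, hx, map_zero]
  · rintro _ ⟨x, rfl⟩
    rw [AddMonoidHom.mem_ker, ← AddMonoidHom.comp_apply]
    refine (DFunLike.congr_fun (k0sub_ext (g := (0 : SGA6.Kcoh X' →+ SGA6.Kcoh U)) fun N hN => ?_) x).trans
      (AddMonoidHom.zero_apply x)
    rw [AddMonoidHom.comp_apply, mapSub_clSub (P := fun M : X'.Modules => Coh.IsCoh M)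
      (Q := fun M : X.Modules => Coh.IsCoh M) _ hi hN,
      mapSub_clSub (P := fun M : X.Modules => Coh.IsCoh M) (Q := PU) _ hj (hi N hN), AddMonoidHom.zero_apply]
    refine (clSub_isAdd (P := PU)).map_zero (isSub_self (isAbClass_isCoh U)) ?_
    rw [IsZero.iff_id_eq_zero]
    ext V s
    have hbot : i ⁻¹ᵁ (j ''ᵁ V) = ⊥ := by
      ext z
      constructor
      · intro hz
        obtain ⟨v, -, hv⟩ := hz
        exact ((Set.ext_iff.1 hU (i z)).1 ⟨v, hv⟩ ⟨z, rfl⟩).elim
      · exact fun hz => hz.elim
    haveI : Subsingleton Γ(N, i ⁻¹ᵁ (j ''ᵁ V)) := by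
      rw [hbot]
      exact AddCommGrpCat.subsingleton_of_isZero
        (TopCat.Sheaf.isTerminalOfEmpty ⟨_, N.isSheaf⟩).isZero
    exact @Subsingleton.elim _ this _ _

end Groth.Agent.H16Derived.GTheory
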