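import Groth.Agent.H16Derived.GTheory.Closed
import Groth.Agent.H10Coh.TildeExact
import Groth.Agent.H10Coh.OpenSpec
import Mathlib.LinearAlgebra.FreeModule.PID

/-!
# `K₀` of coherent modules on the spectrum of a principal ideal domain
-/

set_option autoImplicit false
set_option linter.style.haveILetI false

universe u

open CategoryTheory CategoryTheory.Limits AlgebraicGeometry

namespace Groth.Agent.H16Derived.GTheory

variable (R : CommRingCat.{u}) [IsNoetherianRing R]

/-- `[tilde M]`. -/
noncomputable abbrev clT (M : ModuleCat.{u} R) : SGA6.Kcoh (Spec R) :=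
  KZero.clSub (fun M : (Spec R).Modules => Coh.IsCoh M) (tilde M)

theorem clT_shortExact {S : ShortComplex (ModuleCat.{u} R)} (hS : S.ShortExact) [Module.Finite R S.X₁]
    [Module.Finite R S.X₂] [Module.Finite R S.X₃] : clT R S.X₂ = clT R S.X₁ + clT R S.X₃ :=
  clSub_isAdd (P := fun M : (Spec R).Modules => Coh.IsCoh M) _ (hS.map_of_exact (tilde.functor R))
    (H10Coh.isCoh_tilde S.X₁) (H10Coh.isCoh_tilde S.X₂) (H10Coh.isCoh_tilde S.X₃)

theorem clT_iso {M N : ModuleCat.{u} R} (e : M ≅ N) [Module.Finite R M] [Module.Finite R N] :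
    clT R M = clT R N :=
  (clSub_isAdd (P := fun M : (Spec R).Modules => Coh.IsCoh M)).map_iso (isAbClass_isCoh _)
    (isSub_self (isAbClass_isCoh _)) ((tilde.functor R).mapIso e) (H10Coh.isCoh_tilde M)

theorem clT_self : clT R (ModuleCat.of R R) =
    KZero.clSub (fun M : (Spec R).Modules => Coh.IsCoh M) (Coh.structureModule (Spec R)) :=
  (clSub_isAdd (P := fun M : (Spec R).Modules => Coh.IsCoh M)).map_iso (isAbClass_isCoh _)
    (isSub_self (isAbClass_isCoh _)) (tildeSelf (R := R)) (H10Coh.isCoh_tilde _)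

theorem clT_free_mem : ∀ n : ℕ, clT R (ModuleCat.of R (Fin n → R)) ∈
    AddSubgroup.zmultiples (KZero.clSub (fun M : (Spec R).Modules => Coh.IsCoh M) (Coh.structureModule (Spec R)))
  | 0 => by
    have h : IsZero (ModuleCat.of R (Fin 0 → R)) := ModuleCat.isZero_of_subsingleton _
    rw [show clT R (ModuleCat.of R (Fin 0 → R)) = 0 from (clSub_isAdd (P := fun M : (Spec R).Modules => Coh.IsCoh M)).map_zero
      (isSub_self (isAbClass_isCoh _)) ((tilde.functor R).map_isZero h)]
    exact zero_mem _
  | n + 1 => by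
    let e : (Fin (n + 1) → R) ≃ₗ[R] R × (Fin n → R) := (Fin.consLinearEquiv R fun _ : Fin (n + 1) => R).symm
    rw [clT_iso R (e.toModuleIso : ModuleCat.of R (Fin (n + 1) → R) ≅ ModuleCat.of R (R × (Fin n → R)))]
    let S : ShortComplex (ModuleCat.{u} R) := ShortComplex.mk (ModuleCat.ofHom (LinearMap.inl R R (Fin n → R)))
      (ModuleCat.ofHom (LinearMap.snd R R (Fin n → R))) (by ext; rfl)
    have hS : S.ShortExact :=
      { exact := (ShortComplex.ShortExact.moduleCat_exact_iff_function_exact _).2
          (fun x => ⟨fun hx => ⟨x.1, Prod.ext rfl hx.symm⟩, by rintro ⟨a, rfl⟩; rfl⟩)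
        mono_f := (ModuleCat.mono_iff_injective _).2 LinearMap.inl_injective
        epi_g := (ModuleCat.epi_iff_surjective _).2 LinearMap.snd_surjective }
    haveI : Module.Finite R S.X₁ := Module.Finite.self R
    haveI : Module.Finite R S.X₂ := inferInstanceAs (Module.Finite R (R × (Fin n → R)))
    haveI : Module.Finite R S.X₃ := inferInstanceAs (Module.Finite R (Fin n → R))
    show clT R S.X₂ ∈ _
    rw [clT_shortExact R hS]
    exact add_mem (by rw [show clT R S.X₁ = _ from clT_self R]; exact AddSubgroup.mem_zmultiples _) (clT_free_mem n)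

/-- Coherent modules on the spectrum of a principal ideal domain have classes multiples of `[O]`. -/
theorem zmultiples_eq_top [IsDomain R] [IsPrincipalIdealRing R] :
    AddSubgroup.zmultiples (KZero.clSub (fun M : (Spec R).Modules => Coh.IsCoh M) (Coh.structureModule (Spec R))) = ⊤ := by
  refine H27KZero.closure_eq_top (P := fun M : (Spec R).Modules => Coh.IsCoh M) _ fun F hF => ?_
  haveI : F.IsQuasicoherent := hF.1
  let N : ModuleCat.{u} R := moduleSpecΓFunctor.obj F
  let e : tilde N ≅ F := H10Coh.tildeIso F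
  haveI : Module.Finite R N := by
    haveI := ((H10Coh.isCoh_iff_finite_sections F).1 hF).2 ⊤ (isAffineOpen_top _)
    refine H10Coh.finite_of_semilinear (A := Γ(Spec R, ⊤)) (M := Γ(F, ⊤)) (Scheme.ΓSpecIso R).hom.hom
      (AddMonoidHom.id _) (fun a m => ?_) Function.surjective_id
    show a • m = _
    refine Eq.trans ?_ (Scheme.Modules.smul_Spec_def (M := F) (U := ⊤) ((Scheme.ΓSpecIso R).hom a) m).symm
    rw [Subsingleton.elim (⊤ : (Spec R).Opens).leTop.op (𝟙 _), CategoryTheory.Functor.map_id]
    exact congrArg (· • m) (congr($((Scheme.ΓSpecIso R).hom_inv_id) a)).symm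
  rw [← (clSub_isAdd (P := fun M : (Spec R).Modules => Coh.IsCoh M)).map_iso (isAbClass_isCoh _)
    (isSub_self (isAbClass_isCoh _)) e (H10Coh.isCoh_tilde N)]
  obtain ⟨n, p, hp⟩ := Module.Finite.exists_fin' R N
  let K := LinearMap.ker p
  haveI : Module.Finite R K := Module.Finite.iff_fg.2 (IsNoetherian.noetherian _)
  let b := Module.Free.chooseBasis R K
  haveI := Fintype.ofFinite (Module.Free.ChooseBasisIndex R K)
  let eK : K ≃ₗ[R] (Fin (Fintype.card (Module.Free.ChooseBasisIndex R K)) → R) :=
    b.equivFun ≪≫ₗ LinearEquiv.funCongrLeft R R (Fintype.equivFin _).symm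
  let S : ShortComplex (ModuleCat.{u} R) := ShortComplex.mk (ModuleCat.ofHom K.subtype)
    (ModuleCat.ofHom p) (by ext x; exact x.2)
  have hS : S.ShortExact :=
    { exact := (ShortComplex.ShortExact.moduleCat_exact_iff_function_exact _).2
        (fun x => ⟨fun hx => ⟨⟨x, hx⟩, rfl⟩, by rintro ⟨a, rfl⟩; exact a.2⟩)
      mono_f := (ModuleCat.mono_iff_injective _).2 K.subtype_injective
      epi_g := (ModuleCat.epi_iff_surjective _).2 hp }
  haveI : Module.Finite R S.X₁ := inferInstanceAs (Module.Finite R K)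
  haveI : Module.Finite R S.X₂ := inferInstanceAs (Module.Finite R (Fin n → R))
  haveI : Module.Finite R S.X₃ := inferInstanceAs (Module.Finite R N)
  have h := clT_shortExact R hS
  have hN : clT R N = clT R S.X₂ - clT R S.X₁ := eq_sub_of_add_eq' h.symm
  rw [show KZero.clSub (fun M : (Spec R).Modules => Coh.IsCoh M) (tilde N) = _ from hN,
    show clT R S.X₁ = _ from clT_iso R eK.toModuleIso]
  exact sub_mem (clT_free_mem R n) (clT_free_mem R _)

end Groth.Agent.H16Derived.GTheory
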