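import Groth.Agent.H16Derived.GTheory.EulerSeq
import Groth.Agent.H22Alg.PB.Gen
import Groth.Agent.H22Alg.KPoincare
import Groth.Agent.H10Coh.Proper2

/-!
# `K₀` of coherent modules of a projective bundle
-/

set_option autoImplicit false
set_option linter.style.haveILetI false
set_option linter.unusedSectionVars false

universe v u

open CategoryTheory CategoryTheory.Limits AlgebraicGeometry
open Groth.Agent.H22Alg Groth.Agent.H22Alg.PB
open Groth.Agent.H16Derived.KFlat.Stalk
attribute [local instance] HasDerivedCategory.standard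
attribute [local instance 10000] Groth.Agent.H10Coh.hasSheafifyAb Groth.Agent.H10Coh.hasWeakSheafifyAb Groth.Agent.H10Coh.hasExtAb Groth.Agent.H10Coh.enoughInjAb
attribute [local instance] Groth.Agent.H10Coh.enoughInjMod
attribute [local instance] Groth.Agent.H22Alg.KExists.commRing

noncomputable section

namespace Groth.Agent.H16Derived.GTheory.ProjBundle

variable {X P : Scheme.{u}} [IsNoetherian X] [IsNoetherian P] {r : ℕ} {π : P ⟶ X} {O : ℤ → P.Modules}
  {E : X.Modules} {O1 : P.Modules} {q : (Scheme.Modules.pullback π).obj E ⟶ O1}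

/-- The class of a coherent module. -/
abbrev clC (Z : Scheme.{u}) (M : Z.Modules) : SGA6.Kcoh Z := KZero.clSub (fun M : Z.Modules => Coh.IsCoh M) M

theorem clC_iso {Z : Scheme.{u}} [IsNoetherian Z] {M N : Z.Modules} (e : M ≅ N) (hM : Coh.IsCoh M) :
    clC Z M = clC Z N :=
  (clSub_isAdd (P := fun M : Z.Modules => Coh.IsCoh M)).map_iso (isAbClass_isCoh Z)
    (isSub_self (isAbClass_isCoh Z)) e hM

variable (hπ : IsPn r π O)

include hπ

theorem isCoh_tw (d : ℤ) {M : P.Modules} (hM : Coh.IsCoh M) : Coh.IsCoh (PB.tw O d M) :=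
  H10Coh.TT.isCoh_tensorMod (isCoh_of_isFinLocFree (hπ.finLocFree_O d)) hM

theorem isCoh_push {M : P.Modules} (hM : Coh.IsCoh M) : Coh.IsCoh ((Scheme.Modules.pushforward π).obj M) := by
  haveI := hπ.isProper
  haveI : (Scheme.Modules.pushforward π).IsRightAdjoint :=
    (Scheme.Modules.pullbackPushforwardAdjunction π).isRightAdjoint
  haveI : PreservesFiniteLimits (Scheme.Modules.pushforward π) := inferInstance
  exact H10Coh.isCoh_of_iso ((Scheme.Modules.pushforward π).rightDerivedZeroIsoSelf.app M)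
    (H10Coh.isCoh_rpush π M hM 0)

/-- The Euler characteristic of the direct image. -/
theorem exists_euler :
    ∃ χ : SGA6.Kcoh P →+ SGA6.Kcoh X, ∀ M, Coh.IsCoh M → χ (clC P M) =
      ∑ k ∈ Finset.range (r + 1), (-1 : ℤ) ^ k • clC X ((Coh.Rpush π k).obj M) := by
  haveI := hπ.isProper
  haveI : (Scheme.Modules.pushforward π).IsRightAdjoint :=
    (Scheme.Modules.pullbackPushforwardAdjunction π).isRightAdjoint
  haveI : PreservesFiniteLimits (Scheme.Modules.pushforward π) := inferInstance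
  haveI : (Scheme.Modules.pushforward π).Additive := Functor.additive_of_preserves_binary_products _
  exact exists_lift_isAdd (P := fun M : P.Modules => Coh.IsCoh M) _
    ((clSub_isAdd (P := fun M : X.Modules => Coh.IsCoh M)).euler_rightDerived (Scheme.Modules.pushforward π)
      (isAbClass_isCoh X) (isSub_self (isAbClass_isCoh X)) r (fun M hM k => H10Coh.isCoh_rpush π M hM k)
      (fun M hM => KPoincare.isZero_rpush π M (r + 1) (hπ.van_high (Nat.lt_succ_self r) hM.1)))

/-- The values of the Euler characteristic. -/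
theorem euler_val {χ : SGA6.Kcoh P →+ SGA6.Kcoh X}
    (hχ : ∀ M, Coh.IsCoh M → χ (clC P M) = ∑ k ∈ Finset.range (r + 1), (-1 : ℤ) ^ k • clC X ((Coh.Rpush π k).obj M))
    {d : ℤ} (hd : -(r : ℤ) ≤ d) {A : X.Modules} (hA : Coh.IsCoh A) :
    χ (clC P (PB.tw O d ((Scheme.Modules.pullback π).obj A))) =
      clC X ((Scheme.Modules.pushforward π).obj (PB.tw O d ((Scheme.Modules.pullback π).obj A))) := by
  haveI := hπ.isProper
  haveI : (Scheme.Modules.pushforward π).IsRightAdjoint :=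
    (Scheme.Modules.pullbackPushforwardAdjunction π).isRightAdjoint
  haveI : PreservesFiniteLimits (Scheme.Modules.pushforward π) := inferInstance
  have hM : Coh.IsCoh (PB.tw O d ((Scheme.Modules.pullback π).obj A)) := isCoh_tw hπ d (isCoh_pull π hA)
  rw [hχ _ hM, Finset.sum_range_succ']
  rw [Finset.sum_eq_zero fun k _ => ?_, zero_add, pow_zero, one_smul]
  · exact clC_iso ((Scheme.Modules.pushforward π).rightDerivedZeroIsoSelf.app _) (H10Coh.isCoh_rpush π _ hM 0)
  · have hz : clC X ((Coh.Rpush π (k + 1)).obj (PB.tw O d ((Scheme.Modules.pullback π).obj A))) = 0 :=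
      (clSub_isAdd (P := fun M : X.Modules => Coh.IsCoh M)).map_zero (isSub_self (isAbClass_isCoh X))
        (KPoincare.isZero_rpush π _ (k + 1) (hπ.van_pullback (by omega) hd hA.1))
    rw [hz, smul_zero]

omit [AlgebraicGeometry.IsNoetherian X] in
/-- The Koszul relation. -/
theorem rel (hE : FlatMod.IsFinLocFreeOfRank (r + 1) E) (hPB : KRR.IsProjBundle π E O1 q)
    (hO1 : Nonempty (O 1 ≅ O1)) {A : X.Modules} (hA : Coh.IsCoh A) (d : ℤ) :
    ∑ p ∈ Finset.range (r + 2), ((-1 : ℤ) ^ p) •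
      clC P (PB.tw O (d - p) ((Scheme.Modules.pullback π).obj (CohB1.tensorMod (KExists.extP p E) A))) = 0 := by
  have hE' := KPullLam.finLocFree_of_rank hE
  choose Ψ hΨ using fun d => exists_term π hπ.tw d
  have h := term_rel hE hPB hπ.tw hO1 Ψ hΨ d 1
  simp only [mul_one] at h
  let A' := (Scheme.Modules.pullback π).obj A
  have hA' : Coh.IsCoh A' := isCoh_pull π hA
  have hcoh : ∀ {F : P.Modules}, FlatMod.IsFinLocFree F →
      Coh.IsCoh (((DCoh.tensorBi (X := P)).obj A').obj F) := fun hF =>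
    H10Coh.TT.isCoh_tensorMod hA' (isCoh_of_isFinLocFree hF)
  obtain ⟨β, hβ⟩ := KModel.exists_lift (X := P) (fun F => clC P (((DCoh.tensorBi (X := P)).obj A').obj F))
    fun S hS a b c => clSub_isAdd (P := fun M : P.Modules => Coh.IsCoh M) _
      (shortExact_tensor_of_isFlat A' hS (isFlat_of_isFinLocFree c)) (hcoh a) (hcoh b) (hcoh c)
  have h' := congrArg β h
  rw [map_sum, map_zero] at h'
  refine Eq.trans (Finset.sum_congr rfl fun p _ => ?_) h'
  have hM := KExists.finLocFree_extP p hE'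
  rw [map_zsmul, hΨ _ _ hM, hβ _ (hπ.finLocFree_tw _ (isFinLocFree_pullback π hM))]
  refine congrArg (_ • ·) (clC_iso ?_ (hcoh (hπ.finLocFree_tw _ (isFinLocFree_pullback π hM)))).symm
  exact (leftComm A' (O (d - p)) _) ≪≫ PicGrp.tensorModIso (Iso.refl _)
    (H10Coh.Tw.commIso A' _ ≪≫ ((pullTensorLIso π A).app (KExists.extP p E)).symm)

/-- The window generates all twists. -/
theorem tw_mem (hE : FlatMod.IsFinLocFreeOfRank (r + 1) E) (hPB : KRR.IsProjBundle π E O1 q)
    (hO1 : Nonempty (O 1 ≅ O1)) (R : AddSubgroup (SGA6.Kcoh P))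
    (hR : ∀ i : ℕ, i ≤ r → ∀ A, Coh.IsCoh A → clC P (PB.tw O (i : ℤ) ((Scheme.Modules.pullback π).obj A)) ∈ R) :
    ∀ (m : ℕ) (k : ℤ), -(m : ℤ) ≤ k → k ≤ r + m → ∀ A, Coh.IsCoh A →
      clC P (PB.tw O k ((Scheme.Modules.pullback π).obj A)) ∈ R := by
  have hE' := KPullLam.finLocFree_of_rank hE
  have hMA : ∀ p {A : X.Modules}, Coh.IsCoh A → Coh.IsCoh (CohB1.tensorMod (KExists.extP p E) A) := fun p A hA =>
    H10Coh.TT.isCoh_tensorMod (isCoh_of_isFinLocFree (KExists.finLocFree_extP p hE')) hA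
  intro m
  induction m with
  | zero =>
    intro k hk hk' A hA
    obtain ⟨n, rfl⟩ := Int.eq_ofNat_of_zero_le (show (0 : ℤ) ≤ k by omega)
    exact hR n (by omega) A hA
  | succ m ih =>
    intro k hk hk' A hA
    have hmem : ∀ (s : Finset ℕ) (d : ℤ) (B : X.Modules), Coh.IsCoh B → (∀ p ∈ s, -(m : ℤ) ≤ d - p ∧ d - p ≤ r + m) →
        ∑ p ∈ s, ((-1 : ℤ) ^ p) •
          clC P (PB.tw O (d - p) ((Scheme.Modules.pullback π).obj (CohB1.tensorMod (KExists.extP p E) B))) ∈ R :=
      fun s d B hB hs => R.sum_mem fun p hp => R.zsmul_mem (ih (d - p) (hs p hp).1 (hs p hp).2 _ (hMA p hB)) _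
    by_cases hlow : k < -(m : ℤ)
    · have h1 : FlatMod.IsFinLocFreeOfRank 1 (KExists.extP (r + 1) E) :=
        rank_of_rk (KExists.finLocFree_extP _ hE') fun x => by
          rw [KExists.rk_extPow hE' (KExists.extP_spec (r + 1) hE'), KExists.rk_of_rank hE, Nat.choose_self]
      obtain ⟨L, hL, ⟨eL⟩⟩ := H11Sym.exists_inverse (isInvertible_of_rank_one h1)
      let B := CohB1.tensorMod L A
      have hB : Coh.IsCoh B := H10Coh.TT.isCoh_tensorMod (isCoh_of_isFinLocFree (PnVan.finLocFree_of_inv hL)) hA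
      let eB : CohB1.tensorMod (KExists.extP (r + 1) E) B ≅ A :=
        (H10Coh.Tw.assoc _ _ _).symm ≪≫
          PicGrp.tensorModIso (H10Coh.Tw.commIso _ _ ≪≫ eL) (Iso.refl A) ≪≫ H02CA.KcohNilp.unitL A
      have h := rel hπ hE hPB hO1 hB (k + (r + 1 : ℕ))
      rw [Finset.sum_range_succ, add_eq_zero_iff_eq_neg', add_sub_cancel_right] at h
      have h1 : ((-1 : ℤ) ^ (r + 1)) •
          clC P (PB.tw O k ((Scheme.Modules.pullback π).obj (CohB1.tensorMod (KExists.extP (r + 1) E) B))) ∈ R :=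
        h ▸ R.neg_mem (hmem _ _ _ hB fun p hp => by
          have := Finset.mem_range.1 hp
          omega)
      rw [show clC P (PB.tw O k ((Scheme.Modules.pullback π).obj A)) = _ from
        (clC_iso (((DCoh.tensorBi (X := P)).obj (O k)).mapIso ((Scheme.Modules.pullback π).mapIso eB))
          (isCoh_tw hπ k (isCoh_pull π (hMA (r + 1) hB)))).symm]
      rcases neg_one_pow_eq_or ℤ (r + 1) with e | e <;> rw [e] at h1
      · rwa [one_smul] at h1
      · rw [neg_smul, one_smul] at h1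
        exact neg_mem_iff.1 h1
    by_cases hhigh : (r : ℤ) + m < k
    · have h := rel hπ hE hPB hO1 hA k
      rw [Finset.sum_range_succ', add_eq_zero_iff_eq_neg'] at h
      obtain ⟨e₀⟩ := ExtPowHom.nonempty_iso (KExists.extP_spec 0 hE') (KExists.isExtPow_zero E)
      let eA : CohB1.tensorMod (KExists.extP 0 E) A ≅ A :=
        PicGrp.tensorModIso e₀ (Iso.refl A) ≪≫ H02CA.KcohNilp.unitL A
      rw [pow_zero, one_smul, Nat.cast_zero, sub_zero, show clC P _ = _ from
        clC_iso (((DCoh.tensorBi (X := P)).obj (O k)).mapIso ((Scheme.Modules.pullback π).mapIso eA))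
          (isCoh_tw hπ k (isCoh_pull π (hMA 0 hA)))] at h
      rw [h]
      refine R.neg_mem (R.sum_mem fun p hp => R.zsmul_mem ?_ _)
      have := Finset.mem_range.1 hp
      exact ih (k - ((p + 1 : ℕ) : ℤ)) (by omega) (by omega) _ (hMA _ hA)
    exact ih k (by omega) (by omega) A hA

/-- Twists of the iterates of a regular coherent module. -/
theorem tw_Fk_mem (R : AddSubgroup (SGA6.Kcoh P))
    (hR : ∀ (d : ℤ) A, Coh.IsCoh A → clC P (PB.tw O d ((Scheme.Modules.pullback π).obj A)) ∈ R)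
    {F : P.Modules} (hF : Coh.IsCoh F) (h : Reg π O F) :
    ∀ (j k : ℕ), r + 1 ≤ k + j → k ≤ r + 1 → Coh.IsCoh (Fk π O F k) →
      ∀ d : ℤ, clC P (PB.tw O d (Fk π O F k)) ∈ R
  | 0, k, hk, hk', _, d => by
    obtain rfl : k = r + 1 := by omega
    rw [show clC P _ = _ from (clSub_isAdd (P := fun M : P.Modules => Coh.IsCoh M)).map_zero
      (isSub_self (isAbClass_isCoh P)) (Functor.map_isZero ((DCoh.tensorBi (X := P)).obj (O d))
        (hπ.isZero_Fk_top hF.1 h))]
    exact R.zero_mem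
  | j + 1, k, hk, hk', hc, d => by
    by_cases hkr : k = r + 1
    · exact tw_Fk_mem R hR hF h j k (by omega) hk' hc d
    have hg := hπ.good hF.1 h k
    haveI := hπ.epi_counit hg.1 hg.2
    have hT : Coh.IsCoh ((Scheme.Modules.pushforward π).obj (Fk π O F k)) := isCoh_push hπ hc
    have hPP : Coh.IsCoh (IsPn.PP π (Fk π O F k)) := isCoh_pull π hT
    have hker : Coh.IsCoh (kernel (IsPn.ε π (Fk π O F k))) := H10Coh.isCoh_kernel _ hPP hc.1
    have hnext : Coh.IsCoh (Fk π O F (k + 1)) := isCoh_tw hπ 1 hker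
    have h1 : clC P (PB.tw O d (IsPn.PP π (Fk π O F k))) =
        clC P (PB.tw O d (kernel (IsPn.ε π (Fk π O F k)))) + clC P (PB.tw O d (Fk π O F k)) :=
      clSub_isAdd (P := fun M : P.Modules => Coh.IsCoh M) _
        (shortExact_tw hπ.tw d (IsPn.shortExact_ker (π := π) (Fk π O F k))) (isCoh_tw hπ d hker)
        (isCoh_tw hπ d hPP) (isCoh_tw hπ d hc)
    rw [eq_comm, ← eq_sub_iff_add_eq'] at h1
    rw [h1]
    refine R.sub_mem (hR d _ hT) ?_
    obtain ⟨e⟩ := nonempty_tw_tw hπ.tw (d - 1) 1 d (by ring) (kernel (IsPn.ε π (Fk π O F k)))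
    rw [← clC_iso e (isCoh_tw hπ (d - 1) hnext)]
    exact tw_Fk_mem R hR hF h j (k + 1) (by omega) (by omega) hnext (d - 1)

/-- The classes `ξ^i π^* A`, `i ≤ r`, generate. -/
theorem eq_top (hE : FlatMod.IsFinLocFreeOfRank (r + 1) E) (hPB : KRR.IsProjBundle π E O1 q)
    (hO1 : Nonempty (O 1 ≅ O1)) (R : AddSubgroup (SGA6.Kcoh P))
    (hR : ∀ i : ℕ, i ≤ r → ∀ A, Coh.IsCoh A → clC P (PB.tw O (i : ℤ) ((Scheme.Modules.pullback π).obj A)) ∈ R) :
    R = ⊤ := by
  have hR' : ∀ (d : ℤ) A, Coh.IsCoh A → clC P (PB.tw O d ((Scheme.Modules.pullback π).obj A)) ∈ R := fun d A hA =>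
    tw_mem hπ hE hPB hO1 R hR d.natAbs d (by omega) (by omega) A hA
  refine H27KZero.closure_eq_top (P := fun M : P.Modules => Coh.IsCoh M) R fun F hF => ?_
  haveI := hπ.isProper
  obtain ⟨m, hm⟩ := hπ.exists_reg_twist hF
  have hFm := isCoh_tw hπ (m : ℤ) hF
  have h := tw_Fk_mem hπ R hR' hFm (hm m le_rfl) (r + 1) 0 (by omega) (by omega) hFm (-(m : ℤ))
  obtain ⟨e⟩ := nonempty_tw_tw hπ.tw (-(m : ℤ)) (m : ℤ) 0 (by ring) F
  obtain ⟨z⟩ := nonempty_tw_zero hπ.tw F
  show clC P F ∈ R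
  rw [← clC_iso (e ≪≫ z) (isCoh_tw hπ _ (isCoh_tw hπ _ hF))]
  exact h

/-- Independence. -/
theorem eq_zero (Φ : Fin (r + 1) → (SGA6.Kcoh X →+ SGA6.Kcoh P))
    (hΦ : ∀ (i : Fin (r + 1)) A, Coh.IsCoh A →
      Φ i (clC X A) = clC P (PB.tw O ((i : ℕ) : ℤ) ((Scheme.Modules.pullback π).obj A)))
    (a : Fin (r + 1) → SGA6.Kcoh X) (ha : ∑ i, Φ i (a i) = 0) : a = 0 := by
  classical
  obtain ⟨χ, hχ⟩ := exists_euler hπ
  by_contra hne
  obtain ⟨j, hj, hmax⟩ := Finset.exists_max_image ((Finset.univ : Finset (Fin (r + 1))).filter fun i => a i ≠ 0)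
    (fun i => i) (by
      obtain ⟨i, hi⟩ := Function.ne_iff.1 hne
      exact ⟨i, by simpa using hi⟩)
  have hO := PnVan.finLocFree_of_inv (hπ.tw.inv (-((j : ℕ) : ℤ)))
  let T := (DCoh.tensorBi (X := P)).obj (O (-((j : ℕ) : ℤ)))
  obtain ⟨τ, hτ⟩ := exists_lift_isAdd (P := fun M : P.Modules => Coh.IsCoh M)
    (fun M => clC P (PB.tw O (-((j : ℕ) : ℤ)) M)) fun S hS a b c =>
      clSub_isAdd (P := fun M : P.Modules => Coh.IsCoh M) _ (shortExact_tw hπ.tw _ hS)
        (isCoh_tw hπ _ a) (isCoh_tw hπ _ b) (isCoh_tw hπ _ c)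
  -- the test function
  have hval : ∀ i : Fin (r + 1), (i : ℕ) ≤ j → ∀ A, Coh.IsCoh A → χ (τ (Φ i (clC X A))) =
      if i = j then clC X A else 0 := fun i hij A hA => by
    have hpA : Coh.IsCoh ((Scheme.Modules.pullback π).obj A) := isCoh_pull π hA
    rw [hΦ i A hA, show τ _ = _ from hτ _ (isCoh_tw hπ _ hpA)]
    obtain ⟨e⟩ := nonempty_tw_tw hπ.tw (-((j : ℕ) : ℤ)) ((i : ℕ) : ℤ) (((i : ℕ) : ℤ) - (j : ℕ)) (by ring)
      ((Scheme.Modules.pullback π).obj A)
    rw [clC_iso e (isCoh_tw hπ _ (isCoh_tw hπ _ hpA)), euler_val hπ hχ (by omega) hA]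
    split_ifs with h
    · subst h
      obtain ⟨e'⟩ := nonempty_tw_zero hπ.tw ((Scheme.Modules.pullback π).obj A)
      haveI := hπ.isIso_unit hA.1
      rw [sub_self]
      exact clC_iso ((Scheme.Modules.pushforward π).mapIso e' ≪≫
        (asIso ((Scheme.Modules.pullbackPushforwardAdjunction π).unit.app A)).symm)
        (isCoh_push hπ (isCoh_tw hπ 0 hpA))
    · exact (clSub_isAdd (P := fun M : X.Modules => Coh.IsCoh M)).map_zero (isSub_self (isAbClass_isCoh X))
        (hπ.isZero_push_neg (by omega) (by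
          have : (i : ℕ) ≠ j := fun h' => h (Fin.ext h')
          omega) hA.1)
  have h := congrArg (fun y => χ (τ y)) ha
  simp only [map_sum, map_zero] at h
  rw [Finset.sum_eq_single j (fun i _ hij => ?_) (by simp)] at h
  · refine (Finset.mem_filter.1 hj).2 ?_
    have hid : (χ.comp τ).comp (Φ j) = AddMonoidHom.id _ := k0sub_ext fun A hA => by
      rw [AddMonoidHom.comp_apply, AddMonoidHom.comp_apply, hval j le_rfl A hA, if_pos rfl]; rfl
    exact (DFunLike.congr_fun hid (a j)).symm.trans h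
  · by_cases hai : a i = 0
    · simp [hai]
    have hlt : (i : ℕ) < j := lt_of_le_of_ne (hmax i (by simpa using hai)) fun h' => hij (Fin.ext h')
    have hz : (χ.comp τ).comp (Φ i) = 0 := k0sub_ext fun A hA => by
      rw [AddMonoidHom.comp_apply, AddMonoidHom.comp_apply, hval i hlt.le A hA, if_neg hij]; rfl
    exact DFunLike.congr_fun hz (a i)

end Groth.Agent.H16Derived.GTheory.ProjBundle
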